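import Cfsg.Agent.Lib.LocalEven.Isolated
import Cfsg.Agent.Lib.LocalEven.CyclicNormalizer
import Cfsg.Agent.Lib.Transfer.Focal
import Cfsg.Agent.Lib.PGroup.PowerMap
import Cfsg.Agent.Lib.Yoshida.Basic
import Cfsg.Prelude.Def_IsolatedElements

/-!
Fusion and transfer around an isolated element of order `p` in a perfect group.
-/

set_option autoImplicit false
set_option linter.style.haveILetI false
set_option linter.unusedSectionVars false

open Subgroup
open scoped commutatorElement

namespace CfsgLib.IsolatedPRankTwo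

variable {X : Type*} [Group X] [Finite X] {p : ℕ} [hp : Fact p.Prime]

/-- The elements of a cyclic group with trivial `m`-th power are at most `m`. -/
theorem mem_zpowers_of_orderOf_dvd {W : Subgroup X} [IsCyclic W] {a b : X} (ha : a ∈ W) (hb : b ∈ W)
    (h : orderOf b ∣ orderOf a) : b ∈ zpowers a := by
  classical
  haveI : Fintype W := Fintype.ofFinite W
  set U : Finset W := Finset.univ.filter fun u => u ^ orderOf a = 1
  have hU : U.card ≤ orderOf a := IsCyclic.card_pow_eq_one_le (orderOf_pos a)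
  set Z : Finset W := Finset.univ.filter fun u => u ∈ zpowers (⟨a, ha⟩ : W)
  have hZ : Z.card = orderOf a := by
    rw [← Fintype.card_subtype, ← Nat.card_eq_fintype_card, Nat.card_zpowers, orderOf_mk]
  have hZU : Z = U := Finset.eq_of_subset_of_card_le (fun u hu => by
    simp only [Z, U, Finset.mem_filter, Finset.mem_univ, true_and] at hu ⊢
    obtain ⟨i, rfl⟩ := mem_zpowers_iff.1 hu
    refine Subtype.ext ?_
    push_cast
    rw [← zpow_natCast, ← zpow_mul, mul_comm, zpow_mul, zpow_natCast, pow_orderOf_eq_one, one_zpow])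
    (hU.trans hZ.ge)
  have hbZ : (⟨b, hb⟩ : W) ∈ Z := by
    rw [hZU]
    exact Finset.mem_filter.2 ⟨Finset.mem_univ _,
      Subtype.ext (by simpa using orderOf_dvd_iff_pow_eq_one.1 h)⟩
  obtain ⟨i, hi⟩ := mem_zpowers_iff.1 (Finset.mem_filter.1 hbZ).2
  exact mem_zpowers_iff.2 ⟨i, by simpa using congrArg Subtype.val hi⟩

/-- A central element of `K` in `K'` lies in `P'`. -/
theorem mem_commutator_sylow (P : Sylow p X) {K : Subgroup X} (hPK : (P : Subgroup X) ≤ K) {y : X}
    (hyP : y ∈ (P : Subgroup X)) (hc : ∀ k ∈ K, Commute k y) (hy : y ∈ ⁅K, K⁆) :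
    y ∈ ⁅(P : Subgroup X), (P : Subgroup X)⁆ := by
  have hcop := CfsgLib.Transfer.coprime_card_index_sylow (P.subtype hPK)
  rw [Sylow.coe_subtype] at hcop
  have hz : (⟨y, hPK hyP⟩ : K) ∈ center K :=
    mem_center_iff.2 fun k => Subtype.ext (hc k k.2).eq
  have hz' : (⟨y, hPK hyP⟩ : K) ∈ commutator K := by
    rw [← K.map_subtype_commutator] at hy
    obtain ⟨z, hz1, hz2⟩ := hy
    have : z = ⟨y, hPK hyP⟩ := Subtype.ext hz2
    exact this ▸ hz1
  have h1 := mem_map_of_mem K.subtype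
    (CfsgLib.Transfer.center_inf_commutator_inf_le hcop ⟨⟨hz, hz'⟩, hyP⟩)
  rwa [map_commutator, map_subgroupOf_eq_of_le hPK] at h1

variable (P : Sylow p X)

theorem focal_eq_self (hperf : commutator X = ⊤) :
    (P : Subgroup X).focalSubgroup = (P : Subgroup X) := by
  have h := CfsgLib.Transfer.commutator_inf_eq_focal_of_coprime (H := (P : Subgroup X))
    (CfsgLib.Transfer.coprime_card_quotient_focal (CfsgLib.Transfer.coprime_card_index_sylow P))
  rwa [hperf, top_inf_eq, eq_comm] at h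

variable {y : X} (hy : orderOf y = p) (hiso : Cfsg.IsIsolated y) (hyP : y ∈ (P : Subgroup X))

include hiso hyP in
theorem commute_of_mem {u : X} (hu : u ∈ (P : Subgroup X)) : Commute u y :=
  mem_centralizer_singleton_iff.1
    (CfsgLib.LocalEven.isolated_central_in_pSubgroup hiso P.isPGroup' hyP hu)

include hiso hyP in
theorem normalizer_commute {n : X} (hn : n ∈ normalizer ((P : Subgroup X) : Set X)) :
    Commute n y :=
  mul_inv_eq_iff_eq_mul.1 (CfsgLib.LocalEven.isolated_eq_of_conj_mem hiso P.isPGroup' hyP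
    ((mem_normalizer_iff.1 hn y).1 hyP))

include hy hiso hyP in
/-- The isolated element lies in the derived subgroup of the Sylow subgroup. -/
theorem mem_commutator (hperf : commutator X = ⊤) :
    y ∈ ⁅(P : Subgroup X), (P : Subgroup X)⁆ := by
  set C := centralizer ({y} : Set X) with hC
  have hPC : (P : Subgroup X) ≤ C := fun u hu =>
    mem_centralizer_singleton_iff.2 (commute_of_mem P hiso hyP hu).eq
  refine mem_commutator_sylow P hPC hyP (fun k hk => mem_centralizer_singleton_iff.1 hk) ?_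
  have hctrl : ∀ a ∈ (P : Subgroup X), ∀ g : X, g * a * g⁻¹ ∈ (P : Subgroup X) →
      ∃ k ∈ C, k * a * k⁻¹ = g * a * g⁻¹ := by
    intro a ha g hga
    set b := g * a * g⁻¹
    have h1 : g * y * g⁻¹ ∈ centralizer ({b} : Set X) := by
      rw [mem_centralizer_singleton_iff]
      calc g * y * g⁻¹ * b = g * (y * a) * g⁻¹ := by simp [b, mul_assoc]
        _ = b * (g * y * g⁻¹) := by rw [← (commute_of_mem P hiso hyP ha).eq]; simp [b, mul_assoc]
    obtain ⟨h, hh, hhg⟩ := CfsgLib.LocalEven.isolated_mul_mem_centralizer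
      (p := p) ⟨1, by rw [hy, pow_one]⟩ hiso
      (mem_centralizer_singleton_iff.2 (commute_of_mem P hiso hyP hga).eq.symm) h1
    refine ⟨h * g, hhg, ?_⟩
    calc h * g * a * (h * g)⁻¹ = h * b * h⁻¹ := by simp [b, mul_assoc]
      _ = b := by rw [mem_centralizer_singleton_iff.1 hh, mul_inv_cancel_right]
  have hle := CfsgLib.Transfer.focalSubgroup_le_of_controls hctrl
  rw [focal_eq_self P hperf] at hle
  exact (hle.trans (commutator_mono hPC le_rfl)) hyP

include hy hiso hyP in
/-- Elements of a cyclic central subgroup through `y` are not fused. -/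
theorem cyclic_fixed {W : Subgroup X} [IsCyclic W] (hWP : W ≤ (P : Subgroup X)) (hyW : y ∈ W)
    (hWc : ∀ w ∈ W, ∀ u ∈ (P : Subgroup X), Commute w u) {w g : X} (hw : w ∈ W)
    (hgw : g * w * g⁻¹ ∈ W) : g * w * g⁻¹ = w := by
  by_cases hw1 : w = 1
  · subst hw1; simp
  obtain ⟨n, hn, hnw⟩ := CfsgLib.Transfer.burnside_fusion_central P
    (mem_centralizer_iff.2 fun u hu => (hWc w hw u hu).eq.symm)
    (mem_centralizer_iff.2 fun u hu => (hWc _ hgw u hu).eq.symm) (rfl : g * w * g⁻¹ = _)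
  rw [← hnw]
  have hordw : orderOf (n * w * n⁻¹) = orderOf w := by
    rw [show n * w * n⁻¹ = MulAut.conj n w from rfl, MulEquiv.orderOf_eq]
  have hn2 : n * w * n⁻¹ ∈ zpowers w :=
    mem_zpowers_of_orderOf_dvd hw (hnw ▸ hgw) hordw.dvd
  have hwp : IsPGroup p (zpowers w) := P.isPGroup'.to_le (zpowers_le.2 (hWP hw))
  obtain ⟨e, he⟩ := IsPGroup.iff_card.1 hwp
  rw [Nat.card_zpowers] at he
  have he0 : e ≠ 0 := fun e0 => hw1 (orderOf_eq_one_iff.1 (by rw [he, e0, pow_zero]))
  have hyw : y ∈ zpowers w :=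
    mem_zpowers_of_orderOf_dvd hw hyW (by rw [hy, he]; exact dvd_pow_self p he0)
  have hN : zpowers n ≤ normalizer ((zpowers w : Subgroup X) : Set X) := by
    rw [zpowers_le]
    have hle : (zpowers w).map (MulAut.conj n).toMonoidHom ≤ zpowers w := by
      rw [MonoidHom.map_zpowers, zpowers_le]
      exact hn2
    have heq := eq_of_le_of_card_ge hle
      (le_of_eq (card_map_of_injective (MulAut.conj n).injective).symm)
    rw [mem_normalizer_iff]
    intro a
    constructor
    · exact fun ha => heq.le ⟨a, ha, rfl⟩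
    · intro ha
      obtain ⟨b, hb, hb'⟩ := heq.ge ha
      rwa [← show b = a from (MulAut.conj n).injective hb']
  set k := (orderOf n).factorization p
  set r := orderOf n / p ^ k with hrdef
  have hr : ¬ p ∣ r := Nat.not_dvd_ordCompl hp.out (orderOf_pos n).ne'
  have hkr : p ^ k * r = orderOf n := Nat.ordProj_mul_ordCompl_eq_self _ _
  have hcop : (p ^ k).Coprime r := ((hp.out.coprime_iff_not_dvd).2 hr).pow_left k
  -- the `p`-part lies in `P`, the other part centralises `w`
  have h1 : (n ^ r) * w * (n ^ r)⁻¹ = w := by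
    have hz : IsPGroup p (zpowers (n ^ r)) := by
      refine CfsgLib.LocalEven.zpowers_isPGroup ?_
      obtain ⟨i, -, hi⟩ := (Nat.dvd_prime_pow hp.out).1
        (orderOf_dvd_of_pow_eq_one (by rw [← pow_mul, mul_comm, hkr, pow_orderOf_eq_one]) :
          orderOf (n ^ r) ∣ p ^ k)
      exact ⟨i, hi⟩
    have hsup := hz.to_sup_of_normal_right' P.isPGroup'
      (zpowers_le.2 (pow_mem hn r))
    have hmem : n ^ r ∈ (P : Subgroup X) :=
      (P.is_maximal' hsup le_sup_right).le (mem_sup_left (mem_zpowers _))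
    exact mul_inv_eq_iff_eq_mul.2 (hWc w hw _ hmem).eq.symm
  have h2 : (n ^ p ^ k) * w * (n ^ p ^ k)⁻¹ = w := by
    refine CfsgLib.LocalEven.coprime_fix_cyclic hwp ?_ ?_
      (fun h => hp.out.ne_one (by rw [← hy, h, orderOf_one])) hyw ?_
    · refine Nat.Coprime.coprime_dvd_left (orderOf_dvd_of_pow_eq_one ?_ : orderOf (n ^ p ^ k) ∣ r)
        ((hp.out.coprime_iff_not_dvd).2 hr).symm
      rw [← pow_mul, hkr, pow_orderOf_eq_one]
    · exact (mem_normalizer_iff.1 (hN (pow_mem (mem_zpowers n) _)) w).1 (mem_zpowers w)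
    · exact mul_inv_eq_iff_eq_mul.2 ((normalizer_commute P hiso hyP hn).pow_left _).eq
  obtain ⟨a, b, hab⟩ : ∃ a b : ℤ, (p ^ k : ℕ) * a + r * b = 1 := by
    exact ⟨Nat.gcdA (p ^ k) r, Nat.gcdB (p ^ k) r, by
      rw [← Nat.gcd_eq_gcd_ab, hcop.gcd_eq_one]; rfl⟩
  have hc1 : Commute (n ^ r) w := mul_inv_eq_iff_eq_mul.1 h1
  have hc2 : Commute (n ^ p ^ k) w := mul_inv_eq_iff_eq_mul.1 h2
  have hnc : Commute n w := by
    have : n = (n ^ p ^ k) ^ a * (n ^ r) ^ b := by
      rw [← zpow_natCast n (p ^ k), ← zpow_natCast n r, ← zpow_mul, ← zpow_mul, ← zpow_add, hab,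
        zpow_one]
    rw [this]
    exact (hc2.zpow_left a).mul_left (hc1.zpow_left b)
  exact mul_inv_eq_iff_eq_mul.2 hnc.eq

include hy hiso hyP in
/-- A homomorphic shadow of the `p`-th power map with values in a cyclic central subgroup through
`y` kills the Sylow subgroup. -/
theorem power_kill (hperf : commutator X = ⊤) {W : Subgroup X} [IsCyclic W]
    (hWP : W ≤ (P : Subgroup X)) (hyW : y ∈ W) (hWc : ∀ w ∈ W, ∀ u ∈ (P : Subgroup X), Commute w u)
    {Q : Type*} [Group Q] (π : (P : Subgroup X) →* Q) (hker : ∀ u ∈ π.ker, (u : X) ∈ W)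
    (hmul : ∀ a b : (P : Subgroup X), π ((a * b) ^ p) = π (a ^ p) * π (b ^ p))
    {S : Set (P : Subgroup X)} (hS : closure S = ⊤) (hgen : ∀ s ∈ S, (s : X) ^ p ∈ W)
    (a : (P : Subgroup X)) : π (a ^ p) = 1 := by
  have hpW : ∀ b : (P : Subgroup X), (b : X) ^ p ∈ W := by
    intro b
    induction (hS.ge (mem_top b) : b ∈ closure S) using closure_induction with
    | mem b hb => exact hgen b hb
    | one => simp [one_mem]
    | mul b c _ _ hb hc =>
      have h1 : (b ^ p * c ^ p)⁻¹ * (b * c) ^ p ∈ π.ker := by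
        rw [MonoidHom.mem_ker, map_mul, map_inv, hmul, map_mul, inv_mul_cancel]
      have h2 := mul_mem (mul_mem hb hc) (hker _ h1)
      simpa [mul_assoc] using h2
    | inv b _ hb => simpa [inv_pow] using inv_mem hb
  let ψ : (P : Subgroup X) →* Q :=
    MonoidHom.mk' (fun b => π (b ^ p)) hmul
  have hfoc : (P : Subgroup X).focalSubgroup ≤ ψ.ker.map (P : Subgroup X).subtype := by
    rw [Subgroup.focalSubgroup_def, closure_le]
    rintro _ ⟨hgm, x, hx, u, rfl⟩
    have hb : u * x⁻¹ * u⁻¹ ∈ (P : Subgroup X) := by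
      have := mul_mem (inv_mem hx) hgm
      rw [commutatorElement_def] at this
      simpa [mul_assoc] using this
    refine ⟨⟨x, hx⟩ * ⟨u * x⁻¹ * u⁻¹, hb⟩, ?_, by simp [commutatorElement_def, mul_assoc]⟩
    have h1 : (u * x⁻¹ * u⁻¹) ^ p = x⁻¹ ^ p := by
      rw [conj_pow]
      exact cyclic_fixed P hy hiso hyP hWP hyW hWc (by simpa using hpW (⟨x, hx⟩)⁻¹)
        (by rw [← conj_pow]; simpa using hpW ⟨_, hb⟩)
    have h2 : (⟨u * x⁻¹ * u⁻¹, hb⟩ : (P : Subgroup X)) ^ p = (⟨x, hx⟩ : (P : Subgroup X))⁻¹ ^ p :=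
      Subtype.ext (by simpa using h1)
    show ψ _ = 1
    rw [map_mul, show ψ ⟨u * x⁻¹ * u⁻¹, hb⟩ = ψ ((⟨x, hx⟩ : (P : Subgroup X))⁻¹) from congrArg π h2,
      ← map_mul, mul_inv_cancel, map_one]
  rw [focal_eq_self P hperf] at hfoc
  obtain ⟨b, hb, hba⟩ := hfoc a.2
  rw [← show b = a from Subtype.ext hba]
  exact hb

/-- Without a quotient `C_p ≀ C_p` the Sylow subgroup lies in `[N, N]`. -/
theorem le_commutator_normalizer (hperf : commutator X = ⊤)
    (hW : ∀ (W : Sylow p (Equiv.Perm (Fin (p ^ 2))))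
      (f : ↥(P : Subgroup X) →* ↥(W : Subgroup (Equiv.Perm (Fin (p ^ 2))))),
      ¬ Function.Surjective f) :
    (P : Subgroup X) ≤ ⁅normalizer ((P : Subgroup X) : Set X),
      normalizer ((P : Subgroup X) : Set X)⁆ := by
  by_contra hne
  obtain ⟨W, f, hf⟩ := CfsgLib.Yoshida.yoshida P fun heq => hne (by
    rw [hperf, inf_top_eq] at heq
    exact inf_eq_left.1 heq.symm)
  exact hW W f hf

end CfsgLib.IsolatedPRankTwo
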