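import Cfsg.Agent.Lib.IsolatedPRankTwo.PGroupFacts
import Cfsg.Agent.Lib.IsolatedPRankTwo.Fusion
import Cfsg.Agent.Lib.Case.IsolatedRankTwo
import Cfsg.Agent.Lib.EssSmall.Frattini
import Cfsg.Agent.S1447
import Cfsg.Agent.S3771
import Cfsg.Agent.S3888
import Cfsg.Prelude.Def_Transfer
import Mathlib.GroupTheory.SchurZassenhaus

/-!
The Sylow `p`-subgroup of a perfect group of `p`-rank two with an isolated element of order `p`.
-/

set_option autoImplicit false
set_option linter.style.haveILetI false
set_option linter.unusedSectionVars false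

open Subgroup
open scoped commutatorElement

namespace CfsgLib.IsolatedPRankTwo

universe u

theorem card_sup_le {G : Type*} [Group G] [Finite G] (A B : Subgroup G) [A.Normal] :
    Nat.card (A ⊔ B : Subgroup G) ≤ Nat.card A * Nat.card B := by
  rw [← SetLike.coe_sort_coe, Subgroup.normal_mul]
  exact Set.natCard_mul_le

/-- The `p`-th power is multiplicative modulo a central exponent-`p` bound on commutators. -/
theorem mul_pow_of_central {Q : Type*} [Group Q] {p : ℕ} (hp : p.Prime) (hp2 : p ≠ 2)
    (hc : commutator Q ≤ center Q) (he : ∀ c ∈ commutator Q, c ^ p = 1) (a b : Q) :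
    (a * b) ^ p = a ^ p * b ^ p := by
  have hm := CfsgLib.PGroup.commutatorElement_mem_commutator' b a
  have h1 : ∀ g : Q, ⁅g, ⁅b, a⁆⁆ = 1 := fun g =>
    commutatorElement_eq_one_iff_mul_comm.2 (mem_center_iff.1 (hc hm) g)
  exact CfsgLib.PGroup.mul_pow_prime_eq hp a b (by rw [h1]; exact one_mem _) (by rw [h1]; exact one_mem _)
    (he _ hm) (Or.inl ⟨hp2, h1 _, h1 _⟩)

theorem commutator_le_of_gens {G : Type*} [Group G] (N : Subgroup G) [N.Normal] {S : Set G}
    (hS : closure S = ⊤) (h : ∀ a ∈ S, ∀ b ∈ S, ⁅a, b⁆ ∈ N) : commutator G ≤ N := by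
  have := CfsgLib.MaxClassUniform.commutator_closure_le N h
  rwa [hS, ← commutator_def] at this

theorem comm_mem_of_flip {G : Type*} [Group G] {N : Subgroup G} {a b : G} (h : ⁅a, b⁆ ∈ N) :
    ⁅b, a⁆ ∈ N := by
  rw [← commutatorElement_inv]; exact inv_mem h

variable {X : Type u} [Group X] [Finite X] {p : ℕ} [hp : Fact p.Prime] (P : Sylow p X) {y : X}
  (hy : orderOf y = p) (hiso : Cfsg.IsIsolated y) (hyP : y ∈ (P : Subgroup X))
  (hperf : commutator X = ⊤) (hrank : Cfsg.PRankLE p 2 X) (hp2 : p ≠ 2)

local notation "N" => Subgroup.normalizer ((P : Subgroup X) : Set X)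

include hy hiso hyP hperf in
theorem not_commutative : ∃ a b : (P : Subgroup X), a * b ≠ b * a := by
  by_contra! hc
  have h := mem_commutator P hy hiso hyP hperf
  have hbot : ⁅(P : Subgroup X), (P : Subgroup X)⁆ = ⊥ := by
    rw [eq_bot_iff, commutator_le]
    intro a ha b hb
    rw [mem_bot, commutatorElement_eq_one_iff_mul_comm]
    exact congrArg Subtype.val (hc ⟨a, ha⟩ ⟨b, hb⟩)
  rw [hbot, mem_bot] at h
  exact hp.out.ne_one (by rw [← hy, h, orderOf_one])

theorem commutator_le_of_normalizer (h : (P : Subgroup X) ≤ ⁅N, N⁆) :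
    (P : Subgroup X) ≤ ⁅(P : Subgroup X), N⁆ := by
  have hPN : (P : Subgroup X) ≤ N := le_normalizer
  have hcop := CfsgLib.Transfer.coprime_card_index_sylow (P.subtype hPN)
  rw [Sylow.coe_subtype] at hcop
  set H := (P : Subgroup X).subgroupOf N
  have h1 := CfsgLib.Transfer.commutator_inf_eq_focal_of_coprime (H := H)
    (CfsgLib.Transfer.coprime_card_quotient_focal hcop)
  have h2 : H.focalSubgroup ≤ ⁅H, (⊤ : Subgroup N)⁆ :=
    CfsgLib.Transfer.focalSubgroup_le_of_controls fun x _ g _ => ⟨g, mem_top _, rfl⟩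
  intro u hu
  have hu' : (⟨u, hPN hu⟩ : (N : Subgroup X)) ∈ commutator (N : Subgroup X) := by
    have := h hu
    rw [← Subgroup.map_subtype_commutator] at this
    obtain ⟨z, hz1, hz2⟩ := this
    exact (show z = ⟨u, hPN hu⟩ from Subtype.ext hz2) ▸ hz1
  have h3 := mem_map_of_mem (N : Subgroup X).subtype (h2 (h1.le ⟨hu', hu⟩))
  rwa [map_commutator, map_subgroupOf_eq_of_le hPN, ← MonoidHom.range_eq_map, range_subtype] at h3

include hy hiso hyP hperf hp2 in
theorem not_metacyclic (hm : Cfsg.IsMetacyclic (P : Subgroup X)) : False := by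
  have hno : ∀ (W : Sylow p (Equiv.Perm (Fin (p ^ 2))))
      (f : ↥(P : Subgroup X) →* ↥(W : Subgroup (Equiv.Perm (Fin (p ^ 2))))),
      ¬ Function.Surjective f := by
    intro W f hf
    obtain ⟨A, -, hAe, hA⟩ := exists_elementary_sylow_perm hp2 W
    have := hA.trans (card_le_of_metacyclic hm f hf A hAe)
    have := (Nat.pow_le_pow_iff_right hp.out.one_lt).1 this
    omega
  have hPN := commutator_le_of_normalizer P (le_commutator_normalizer P hperf hno)
  haveI : ((P : Subgroup X).subgroupOf N).Normal := normal_in_normalizer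
  have hcop : (Nat.card ((P : Subgroup X).subgroupOf N)).Coprime
      ((P : Subgroup X).subgroupOf N).index := by
    have := (P.subtype (le_normalizer : (P : Subgroup X) ≤ N)).card_coprime_index
    rwa [Sylow.coe_subtype] at this
  obtain ⟨H0, hH0⟩ := exists_right_complement'_of_coprime hcop
  set H := H0.map (N : Subgroup X).subtype
  have hHN : H ≤ N := map_subtype_le _
  obtain ⟨m, hm'⟩ := IsPGroup.iff_card.1 P.isPGroup'
  have hcopH : (Nat.card H).Coprime p := by
    rw [card_map_of_injective (N : Subgroup X).subtype_injective, ← hH0.symm.index_eq_card]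
    have hne : m ≠ 0 := fun h0 => by
      have h1 : (P : Subgroup X) = ⊥ := eq_bot_of_card_eq _ (by rw [hm', h0, pow_zero])
      rw [h1, mem_bot] at hyP
      exact hp.out.ne_one (by rw [← hy, hyP, orderOf_one])
    rw [Nat.card_congr (subgroupOfEquivOfLe (le_normalizer : (P : Subgroup X) ≤ N)).toEquiv, hm'] at hcop
    exact ((Nat.coprime_pow_left_iff (Nat.pos_of_ne_zero hne) _ _).1 hcop).symm
  obtain ⟨hRc, -, -, -⟩ := Cfsg.Agent.S1447.result p hp2 (P : Subgroup X) H P.isPGroup' hm hHN hcopH
  set R := ⁅(P : Subgroup X), H⁆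
  have hRP : R ≤ (P : Subgroup X) := by
    rw [commutator_le]
    intro a ha b hb
    rw [commutatorElement_def, mul_assoc, mul_assoc, ← mul_assoc b]
    exact mul_mem ha ((mem_normalizer_iff.1 (hHN hb) a⁻¹).1 (inv_mem ha))
  set K := R ⊔ ⁅(P : Subgroup X), (P : Subgroup X)⁆ with hK
  have hKP : K ≤ (P : Subgroup X) := sup_le hRP (by
    rw [commutator_le]
    exact fun a ha b hb => mul_mem (mul_mem (mul_mem ha hb) (inv_mem ha)) (inv_mem hb))
  have hconjK : ∀ u ∈ (P : Subgroup X), ∀ k ∈ K, u * k * u⁻¹ ∈ K := fun u hu k hk => by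
    rw [show u * k * u⁻¹ = ⁅u, k⁆ * k by rw [commutatorElement_def]; group]
    exact mul_mem (mem_sup_right (commutator_mem_commutator hu (hKP hk))) hk
  have hPK : (P : Subgroup X) ≤ K := by
    refine hPN.trans (commutator_le.2 fun a ha n hn => ?_)
    obtain ⟨⟨u, h0⟩, huh⟩ := hH0.surjective (⟨n, hn⟩ : (N : Subgroup X))
    have hn' : ((u : (N : Subgroup X)) : X) * ((h0 : (N : Subgroup X)) : X) = n :=
      congrArg Subtype.val huh
    rw [← hn', show ∀ v w : X, ⁅a, v * w⁆ = ⁅a, v⁆ * (v * ⁅a, w⁆ * v⁻¹) from fun v w => by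
      simp only [commutatorElement_def]; group]
    exact mul_mem (mem_sup_right (commutator_mem_commutator ha u.2))
      (hconjK _ u.2 _ (mem_sup_left (commutator_mem_commutator ha (mem_map_of_mem _ h0.2))))
  haveI : Group.IsNilpotent (P : Subgroup X) := P.isPGroup'.isNilpotent
  have htop : R.subgroupOf (P : Subgroup X) = ⊤ := by
    refine CfsgLib.Transfer.eq_top_of_sup_commutator ?_
    refine map_injective (P : Subgroup X).subtype_injective ?_
    rw [Subgroup.map_sup, map_subgroupOf_eq_of_le hRP, Subgroup.map_subtype_commutator,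
      ← MonoidHom.range_eq_map, range_subtype]
    exact le_antisymm hKP hPK
  obtain ⟨a, b, hab⟩ := not_commutative P hy hiso hyP hperf
  exact hab (Subtype.ext (show (a : X) * b = b * a from congrArg Subtype.val (hRc.is_comm.comm
    (⟨(a : X), (htop.ge (mem_top a) : a ∈ R.subgroupOf (P : Subgroup X))⟩ : R)
    ⟨(b : X), (htop.ge (mem_top b) : b ∈ R.subgroupOf (P : Subgroup X))⟩)))

include hrank in
theorem rank_sylow : Cfsg.PRankLE p 2 (P : Subgroup X) := by
  intro A hA hAp
  rw [← card_map_of_injective (K := A) (P : Subgroup X).subtype_injective]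
  refine hrank _ ⟨⟨?_⟩⟩ ?_
  · rintro ⟨_, a, ha, rfl⟩ ⟨_, b, hb, rfl⟩
    exact Subtype.ext (congrArg (P : Subgroup X).subtype
      (congrArg Subtype.val (hA.is_comm.comm (⟨a, ha⟩ : A) ⟨b, hb⟩)))
  · rintro _ ⟨a, ha, rfl⟩
    rw [← map_pow, hAp a ha, map_one]

include hy hiso hyP hrank in
/-- A second central element of order `p` forces every element of order `p` to be central. -/
theorem central_of_order_p {w : (P : Subgroup X)} (hwc : ∀ u : (P : Subgroup X), Commute w u)
    (hw : orderOf w = p) (hyw : y ∉ zpowers (w : X)) {v : (P : Subgroup X)} (hv : v ^ p = 1)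
    (u : (P : Subgroup X)) : Commute v u := by
  have hcy : ∀ t : (P : Subgroup X), Commute y (t : X) := fun t =>
    (commute_of_mem P hiso hyP t.2).symm
  obtain ⟨i, j, hij⟩ := CfsgLib.Case.IsolatedRankTwo.exists_zpow_mul hrank
    (z := (w : X)) (x := y) (u := (v : X)) (by rw [orderOf_coe, hw])
    (hy ▸ pow_orderOf_eq_one y) (by simpa using congrArg Subtype.val hv)
    (hcy w).symm ((hwc v).map (P : Subgroup X).subtype) (hcy v) hyw
  refine Subtype.ext ?_
  show (v : X) * u = u * v
  rw [hij]
  exact ((((hwc u).map (P : Subgroup X).subtype).zpow_left i).mul_left ((hcy u).zpow_left j)).eq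

theorem commute_of_gens {G : Type*} [Group G] {S : Set G} (hS : closure S = ⊤)
    (h : ∀ a ∈ S, ∀ b ∈ S, a * b = b * a) (a b : G) : a * b = b * a := by
  haveI := isMulCommutative_closure h
  exact congrArg Subtype.val ((inferInstance : IsMulCommutative (closure S)).is_comm.comm
    (⟨a, hS.ge (mem_top a)⟩ : closure S) ⟨b, hS.ge (mem_top b)⟩)

include hrank hp2 in
theorem card_le_of_exponent (h : ∀ a : (P : Subgroup X), a ^ p = 1) :
    Nat.card (P : Subgroup X) ≤ p ^ 3 :=
  Cfsg.Agent.S3771.result P.isPGroup' (rank_sylow P hrank) h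

include hy hiso hyP hperf hrank hp2 in
/-- The central product case. -/
theorem case_central_product {n : ℕ} (hn : Nat.card (P : Subgroup X) = p ^ n) (hn3 : 3 ≤ n)
    {x v z : (P : Subgroup X)} (hgen : closure ({x, v, z} : Set (P : Subgroup X)) = ⊤)
    (hx : x ^ p = 1) (hv : v ^ p = 1) (hz : z ^ p ^ (n - 2) = 1) (hxz : x * z = z * x)
    (hvz : v * z = z * v) (hxv : x⁻¹ * v * x = v * z ^ p ^ (n - 3)) :
    n = 3 ∧ ∀ a : (P : Subgroup X), a ^ p = 1 := by
  set S : Set (P : Subgroup X) := {x, v, z}
  obtain ⟨a0, b0, hab⟩ := not_commutative P hy hiso hyP hperf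
  set w := z ^ p ^ (n - 3) with hwdef
  have hzc : ∀ u : (P : Subgroup X), Commute z u := by
    intro u
    induction (hgen.ge (mem_top u) : u ∈ closure S) using closure_induction with
    | mem u hu =>
      rcases hu with rfl | rfl | rfl
      · exact hxz.symm
      · exact hvz.symm
      · exact Commute.refl _
    | one => exact Commute.one_right _
    | mul a b _ _ ha hb => exact ha.mul_right hb
    | inv a _ ha => exact ha.inv_right
  have hwc : ∀ u : (P : Subgroup X), Commute w u := fun u => (hzc u).pow_left _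
  have hvx : ⁅v, x⁆ = w := by
    rw [commutatorElement_def, show v * x = x * (x⁻¹ * v * x) by group, hxv]
    rw [show x * (v * w) * v⁻¹ * x⁻¹ = x * (v * w * v⁻¹) * x⁻¹ by group,
      (hwc v).symm.eq, mul_inv_cancel_right, (hwc x).symm.eq, mul_inv_cancel_right]
  have hwp : w ^ p = 1 := by
    rw [hwdef, ← pow_mul, ← pow_succ, show n - 3 + 1 = n - 2 by omega, hz]
  have hw1 : w ≠ 1 := by
    intro hw
    refine hab (commute_of_gens hgen ?_ a0 b0)
    have hcvx : v * x = x * v := commutatorElement_eq_one_iff_mul_comm.1 (hvx.trans hw)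
    rintro a (rfl | rfl | rfl) b (rfl | rfl | rfl) <;>
      first | rfl | exact hxz | exact hxz.symm | exact hvz | exact hvz.symm | exact hcvx | exact hcvx.symm
  have hwo : orderOf w = p := orderOf_eq_prime hwp hw1
  set W := zpowers (z : X) with hW
  have hyW : y ∈ W := by
    by_contra hyW
    have hyw : y ∉ zpowers (w : X) := fun h => hyW <| by
      refine zpowers_le.2 ?_ h
      rw [hwdef, SubmonoidClass.coe_pow]
      exact pow_mem (mem_zpowers _) _
    refine hab (commute_of_gens hgen ?_ a0 b0)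
    have hx' := central_of_order_p P hy hiso hyP hrank hwc hwo hyw hx
    have hv' := central_of_order_p P hy hiso hyP hrank hwc hwo hyw hv
    rintro a (rfl | rfl | rfl) b hb
    · exact hx' b
    · exact hv' b
    · exact hzc b
  haveI hwn : (zpowers w).Normal := ⟨fun a ha g => by
    obtain ⟨i, rfl⟩ := mem_zpowers_iff.1 ha
    rw [← ((hwc g).zpow_left i).eq, mul_inv_cancel_right]
    exact zpow_mem (mem_zpowers _) i⟩
  have hder : commutator (P : Subgroup X) ≤ zpowers w := by
    refine commutator_le_of_gens _ hgen ?_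
    have hvx' : ⁅v, x⁆ ∈ zpowers w := hvx ▸ mem_zpowers w
    have h0 : ∀ a b : (P : Subgroup X), a * b = b * a → ⁅a, b⁆ ∈ zpowers w := fun a b h => by
      rw [commutatorElement_eq_one_iff_mul_comm.2 h]; exact one_mem _
    rintro a (rfl | rfl | rfl) b (rfl | rfl | rfl) <;>
      first | exact h0 _ _ rfl | exact h0 _ _ hxz | exact h0 _ _ hxz.symm | exact h0 _ _ hvz |
        exact h0 _ _ hvz.symm | exact hvx' | exact comm_mem_of_flip hvx'
  have hmul : ∀ a b : (P : Subgroup X), (a * b) ^ p = a ^ p * b ^ p := by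
    refine mul_pow_of_central hp.out hp2 (fun c hc => ?_) fun c hc => ?_
    · obtain ⟨i, rfl⟩ := mem_zpowers_iff.1 (hder hc)
      exact mem_center_iff.2 fun g => ((hwc g).zpow_left i).eq.symm
    · exact CfsgLib.Case.IsolatedRankTwo.pow_eq_one_of_mem_zpowers (hder hc) hwp
  have hkill := fun a => power_kill P hy hiso hyP hperf (W := W)
    (zpowers_le.2 z.2) hyW
    (fun t ht u hu => by
      obtain ⟨i, rfl⟩ := mem_zpowers_iff.1 ht
      exact (((hzc ⟨u, hu⟩).map (P : Subgroup X).subtype)).zpow_left i)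
    (MonoidHom.id _) (fun u hu => by
      rw [show u = 1 from hu]; exact one_mem _)
    hmul hgen (by
      rintro s (rfl | rfl | rfl)
      · rw [← SubmonoidClass.coe_pow, hx]; exact one_mem _
      · rw [← SubmonoidClass.coe_pow, hv]; exact one_mem _
      · exact pow_mem (mem_zpowers _) _) a
  refine ⟨?_, hkill⟩
  have h1 := card_le_of_exponent P hrank hp2 hkill
  rw [hn] at h1
  have := (Nat.pow_le_pow_iff_right hp.out.one_lt).1 h1
  omega

include hy hiso hyP hperf hrank hp2 in
/-- The groups `G(n, s)` occur only as the group of maximal class of order `3 ^ 4`. -/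
theorem case_exceptional {n : ℕ} (hn : Nat.card (P : Subgroup X) = p ^ n) (hn4 : 4 ≤ n) {s : ℕ}
    (hs : ¬ p ∣ s) {x v z : (P : Subgroup X)} (hgen : closure ({x, v, z} : Set (P : Subgroup X)) = ⊤)
    (hx : x ^ p = 1) (hv : v ^ p = 1) (hz : z ^ p ^ (n - 2) = 1) (hvz : v * z = z * v)
    (hxv : x⁻¹ * v * x = v * z ^ (s * p ^ (n - 3))) (hxz : x⁻¹ * z * x = v * z) :
    p = 3 ∧ n = 4 ∧ (⊤ : Subgroup (P : Subgroup X)).lowerCentralSeries 2 ≠ ⊥ := by
  set S : Set (P : Subgroup X) := {x, v, z}
  have hzp : ∀ u : (P : Subgroup X), Commute (z ^ p) u := by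
    intro u
    induction (hgen.ge (mem_top u) : u ∈ closure S) using closure_induction with
    | mem u hu =>
      rcases hu with rfl | rfl | rfl
      · have h1 : u⁻¹ * z ^ p * u = z ^ p := by
          have : u⁻¹ * z ^ p * u = (u⁻¹ * z * u) ^ p := by
            have := conj_pow (i := p) (a := u⁻¹) (b := z)
            rw [inv_inv] at this
            exact this.symm
          rw [this, hxz, Commute.mul_pow hvz, hv, one_mul]
        rw [mul_assoc, inv_mul_eq_iff_eq_mul] at h1
        exact h1
      · exact ((show Commute u z from hvz).pow_right p).symm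
      · exact (Commute.refl _).pow_left p
    | one => exact Commute.one_right _
    | mul a b _ _ ha hb => exact ha.mul_right hb
    | inv a _ ha => exact ha.inv_right
  set w := z ^ p ^ (n - 3) with hwdef
  have hw' : w = (z ^ p) ^ p ^ (n - 4) := by
    rw [hwdef, ← pow_mul, ← pow_succ', show n - 4 + 1 = n - 3 by omega]
  have hwc : ∀ u : (P : Subgroup X), Commute w u := fun u => hw' ▸ (hzp u).pow_left _
  have hwp : w ^ p = 1 := by
    rw [hwdef, ← pow_mul, ← pow_succ, show n - 3 + 1 = n - 2 by omega, hz]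
  have hxv' : x⁻¹ * v * x = v * w ^ s := by rw [hxv, mul_comm s, pow_mul]
  have hvx : ⁅v, x⁆ = w ^ s := by
    rw [commutatorElement_def, show v * x = x * (x⁻¹ * v * x) by group, hxv',
      show x * (v * w ^ s) * v⁻¹ * x⁻¹ = x * (v * w ^ s * v⁻¹) * x⁻¹ by group,
      ((hwc v).pow_left s).symm.eq, mul_inv_cancel_right, ((hwc x).pow_left s).symm.eq,
      mul_inv_cancel_right]
  have hzx : ⁅z, x⁆ = v * (w ^ s)⁻¹ := by
    rw [commutatorElement_def, show z * x = x * (x⁻¹ * z * x) by group, hxz,
      show x * (v * z) * z⁻¹ * x⁻¹ = (w ^ s)⁻¹ * v by rw [← hvx, commutatorElement_def]; group,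
      ((hwc v).pow_left s).inv_left.eq]
  -- `w ≠ 1`
  have hw1 : w ≠ 1 := by
    intro hw
    have hvc : ∀ u : (P : Subgroup X), Commute v u := by
      intro u
      induction (hgen.ge (mem_top u) : u ∈ closure S) using closure_induction with
      | mem u hu =>
        rcases hu with rfl | rfl | rfl
        · exact commutatorElement_eq_one_iff_commute.1 (by rw [hvx, hw, one_pow])
        · exact Commute.refl _
        · exact hvz
      | one => exact Commute.one_right _
      | mul a b _ _ ha hb => exact ha.mul_right hb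
      | inv a _ ha => exact ha.inv_right
    haveI : (zpowers v).Normal := ⟨fun a ha g => by
      obtain ⟨i, rfl⟩ := mem_zpowers_iff.1 ha
      rw [← ((hvc g).zpow_left i).eq, mul_inv_cancel_right]
      exact zpow_mem (mem_zpowers _) i⟩
    set M := zpowers v ⊔ zpowers z with hM
    have hvM : v ∈ M := mem_sup_left (mem_zpowers v)
    have hder : commutator (P : Subgroup X) ≤ zpowers v := by
      refine commutator_le_of_gens _ hgen ?_
      have h1 : ⁅v, x⁆ ∈ zpowers v := by rw [hvx, hw, one_pow]; exact one_mem _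
      have h2 : ⁅z, x⁆ ∈ zpowers v := by rw [hzx, hw, one_pow, inv_one, mul_one]; exact mem_zpowers _
      have h0 : ∀ a b : (P : Subgroup X), a * b = b * a → ⁅a, b⁆ ∈ zpowers v := fun a b h => by
        rw [commutatorElement_eq_one_iff_mul_comm.2 h]; exact one_mem _
      rintro a (rfl | rfl | rfl) b (rfl | rfl | rfl) <;>
        first | exact h0 _ _ rfl | exact h0 _ _ hvz | exact h0 _ _ hvz.symm | exact h1 | exact h2 |
          exact comm_mem_of_flip h1 | exact comm_mem_of_flip h2
    haveI : M.Normal := ⟨fun a ha g => by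
      rw [show g * a * g⁻¹ = ⁅g, a⁆ * a by rw [commutatorElement_def]; group]
      exact mul_mem (mem_sup_left (hder (CfsgLib.PGroup.commutatorElement_mem_commutator' g a))) ha⟩
    have htop : M ⊔ zpowers x = ⊤ := by
      refine top_le_iff.1 (hgen ▸ (closure_le _).2 ?_)
      rintro a (rfl | rfl | rfl)
      · exact mem_sup_right (mem_zpowers _)
      · exact mem_sup_left hvM
      · exact mem_sup_left (mem_sup_right (mem_zpowers _))
    have hc1 := card_sup_le M (zpowers x)
    have hc2 := card_sup_le (zpowers v) (zpowers z)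
    rw [htop, card_top, hn, Nat.card_zpowers] at hc1
    rw [Nat.card_zpowers, Nat.card_zpowers] at hc2
    have ho1 := Nat.le_of_dvd hp.out.pos (orderOf_dvd_of_pow_eq_one hx)
    have ho2 := Nat.le_of_dvd hp.out.pos (orderOf_dvd_of_pow_eq_one hv)
    have ho3 : orderOf z ≤ p ^ (n - 3) :=
      Nat.le_of_dvd (pow_pos hp.out.pos _) (orderOf_dvd_of_pow_eq_one hw)
    have := hc1.trans (Nat.mul_le_mul (hc2.trans (Nat.mul_le_mul ho2 ho3)) ho1)
    rw [← pow_succ', ← pow_succ] at this
    have := (Nat.pow_le_pow_iff_right hp.out.one_lt).1 this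
    omega
  have hws : w ^ s ≠ 1 := fun h => by
    have h1 := orderOf_dvd_of_pow_eq_one h
    rw [orderOf_eq_prime hwp hw1] at h1
    exact hs h1
  have hwo : orderOf w = p := orderOf_eq_prime hwp hw1
  set W := zpowers ((z ^ p : (P : Subgroup X)) : X) with hW
  have hwW : (w : X) ∈ W := by
    rw [hw', SubmonoidClass.coe_pow]; exact pow_mem (mem_zpowers _) _
  have hyW : y ∈ W := by
    by_contra hyW
    have hyw : y ∉ zpowers (w : X) := fun h => hyW (zpowers_le.2 hwW h)
    have hv' := central_of_order_p P hy hiso hyP hrank hwc hwo hyw hv x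
    exact hws (by rw [← hvx]; exact commutatorElement_eq_one_iff_commute.2 hv')
  haveI hwn : (zpowers w).Normal := ⟨fun a ha g => by
    obtain ⟨i, rfl⟩ := mem_zpowers_iff.1 ha
    rw [← ((hwc g).zpow_left i).eq, mul_inv_cancel_right]
    exact zpow_mem (mem_zpowers _) i⟩
  set Y := closure ({v, w} : Set (P : Subgroup X)) with hY
  have hwY : zpowers w ≤ Y := zpowers_le.2 (subset_closure (by simp))
  have hvY : v ∈ Y := subset_closure (by simp)
  have hYP : ⁅Y, (⊤ : Subgroup (P : Subgroup X))⁆ ≤ zpowers w := by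
    rw [← hgen]
    refine CfsgLib.MaxClassUniform.commutator_closure_le _ ?_
    have h0 : ∀ a b : (P : Subgroup X), a * b = b * a → ⁅a, b⁆ ∈ zpowers w := fun a b h => by
      rw [commutatorElement_eq_one_iff_mul_comm.2 h]; exact one_mem _
    rintro a (rfl | rfl) b hb
    · rcases hb with rfl | rfl | rfl
      · rw [hvx]; exact pow_mem (mem_zpowers _) _
      · exact h0 _ _ rfl
      · exact h0 _ _ hvz
    · exact h0 _ _ (hwc b)
  haveI : Y.Normal := ⟨fun a ha g => by
    rw [show g * a * g⁻¹ = ⁅g, a⁆ * a by rw [commutatorElement_def]; group]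
    exact mul_mem (hwY (comm_mem_of_flip (hYP (commutator_mem_commutator ha (mem_top g))))) ha⟩
  have hder : commutator (P : Subgroup X) ≤ Y := by
    refine commutator_le_of_gens _ hgen ?_
    have h1 : ⁅v, x⁆ ∈ Y := by rw [hvx]; exact hwY (pow_mem (mem_zpowers _) _)
    have h2 : ⁅z, x⁆ ∈ Y := by
      rw [hzx]; exact mul_mem hvY (hwY (inv_mem (pow_mem (mem_zpowers _) _)))
    have h0 : ∀ a b : (P : Subgroup X), a * b = b * a → ⁅a, b⁆ ∈ Y := fun a b h => by
      rw [commutatorElement_eq_one_iff_mul_comm.2 h]; exact one_mem _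
    rintro a (rfl | rfl | rfl) b (rfl | rfl | rfl) <;>
      first | exact h0 _ _ rfl | exact h0 _ _ hvz | exact h0 _ _ hvz.symm | exact h1 | exact h2 |
        exact comm_mem_of_flip h1 | exact comm_mem_of_flip h2
  have hYe : ∀ a ∈ Y, a ^ p = 1 := by
    haveI : IsMulCommutative Y := isMulCommutative_closure (by
      rintro a (rfl | rfl) b (rfl | rfl)
      · rfl
      · exact (hwc _).eq.symm
      · exact (hwc _).eq
      · rfl)
    intro a ha
    induction ha using closure_induction with
    | mem a ha =>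
      rcases ha with rfl | rfl
      · exact hv
      · exact hwp
    | one => exact one_pow p
    | mul a b ha' hb' h1 h2 =>
      rw [(show Commute a b from congrArg Subtype.val
        ((inferInstance : IsMulCommutative Y).is_comm.comm (⟨a, ha'⟩ : Y) ⟨b, hb'⟩)).mul_pow,
        h1, h2, one_mul]
    | inv a _ h1 => rw [inv_pow, h1, inv_one]
  have hWP : W ≤ (P : Subgroup X) := zpowers_le.2 (z ^ p : (P : Subgroup X)).2
  have hWc : ∀ t ∈ W, ∀ u ∈ (P : Subgroup X), Commute t u := fun t ht u hu => by
    obtain ⟨i, rfl⟩ := mem_zpowers_iff.1 ht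
    exact (((hzp ⟨u, hu⟩).map (P : Subgroup X).subtype)).zpow_left i
  have hgenW : ∀ t ∈ S, (t : X) ^ p ∈ W := by
    rintro t (rfl | rfl | rfl)
    · rw [← SubmonoidClass.coe_pow, hx]; exact one_mem _
    · rw [← SubmonoidClass.coe_pow, hv]; exact one_mem _
    · exact mem_zpowers _
  by_cases h5 : 5 ≤ p
  · exfalso
    have hmul : ∀ a b : (P : Subgroup X), (a * b) ^ p = a ^ p * b ^ p := by
      intro a b
      have hm := hder (CfsgLib.PGroup.commutatorElement_mem_commutator' b a)
      have h1 : ∀ g : (P : Subgroup X), ⁅g, ⁅b, a⁆⁆ ∈ zpowers w := fun g =>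
        comm_mem_of_flip (hYP (commutator_mem_commutator hm (mem_top g)))
      have hc : zpowers w ≤ center (P : Subgroup X) :=
        zpowers_le.2 (mem_center_iff.2 fun g => (hwc g).eq.symm)
      exact CfsgLib.PGroup.mul_pow_prime_eq hp.out a b (hc (h1 a)) (hc (h1 b)) (hYe _ hm)
        (Or.inr ⟨by omega, hYe _ (hwY (h1 a)), hYe _ (hwY (h1 b))⟩)
    have hkill := fun a => power_kill P hy hiso hyP hperf hWP hyW hWc (MonoidHom.id _)
      (fun u hu => by rw [show u = 1 from hu]; exact one_mem _) hmul hgen hgenW a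
    have h1 := card_le_of_exponent P hrank hp2 hkill
    rw [hn] at h1
    have := (Nat.pow_le_pow_iff_right hp.out.one_lt).1 h1
    omega
  have hp3 : p = 3 := by
    have := hp.out.two_le
    have : p ≠ 4 := fun h => by rw [h] at hp; exact absurd hp.out (by norm_num)
    omega
  refine ⟨hp3, ?_, ?_⟩
  · by_contra hn5
    have hn5' : 5 ≤ n := by omega
    set π := QuotientGroup.mk' (zpowers w) with hπ
    have hsurj := QuotientGroup.mk'_surjective (zpowers w)
    have hQd : commutator ((P : Subgroup X) ⧸ zpowers w) ≤ Y.map π := by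
      rw [_root_.commutator_def, ← Subgroup.map_top_of_surjective π hsurj, ← map_commutator,
        ← _root_.commutator_def]
      exact map_mono hder
    have hmul := mul_pow_of_central hp.out hp2 (Q := (P : Subgroup X) ⧸ zpowers w)
      (fun c hc => by
        obtain ⟨a, ha, rfl⟩ := hQd hc
        refine mem_center_iff.2 fun q => ?_
        obtain ⟨g, rfl⟩ := hsurj q
        rw [eq_comm, ← commutatorElement_eq_one_iff_mul_comm, ← map_commutatorElement]
        exact (QuotientGroup.eq_one_iff _).2 (hYP (commutator_mem_commutator ha (mem_top g))))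
      (fun c hc => by
        obtain ⟨a, ha, rfl⟩ := hQd hc
        rw [← map_pow, hYe a ha, map_one])
    have hkill := power_kill P hy hiso hyP hperf hWP hyW hWc π
      (fun u hu => by
        rw [hπ, QuotientGroup.ker_mk'] at hu
        obtain ⟨i, rfl⟩ := mem_zpowers_iff.1 hu
        simpa using zpow_mem hwW i)
      (fun a b => by simp only [map_pow, map_mul, hmul]) hgen hgenW z
    have h2 : (z ^ p) ^ p = 1 := CfsgLib.Case.IsolatedRankTwo.pow_eq_one_of_mem_zpowers
      ((QuotientGroup.eq_one_iff _).1 hkill) hwp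
    refine hw1 ?_
    rw [hwdef, show n - 3 = 2 + (n - 5) by omega, pow_add, pow_mul, sq, pow_mul, h2, one_pow]
  · intro h2
    refine hws ?_
    rw [← hvx, ← mem_bot, ← h2]
    have hv1 : v ∈ (⊤ : Subgroup (P : Subgroup X)).lowerCentralSeries 1 := by
      rw [top_lowerCentralSeries_one]
      have hv2 : v = ⁅x⁻¹, z⁆ := by
        rw [commutatorElement_def, inv_inv, hxz, mul_inv_cancel_right]
      exact hv2.symm ▸ CfsgLib.PGroup.commutatorElement_mem_commutator' _ _
    exact CfsgLib.MaxClassUniform.comm_mem_succ hv1 x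

include hy hiso hyP hperf in
theorem case_three_cube (hp3 : p = 3) (hn : Nat.card (P : Subgroup X) = p ^ 3) (hp2 : p ≠ 2)
    (a : (P : Subgroup X)) : a ^ p = 1 := by
  by_contra ha
  have ha3 : orderOf a = p ^ 2 := by
    obtain ⟨i, hi, hi'⟩ := (Nat.dvd_prime_pow hp.out).1 (hn ▸ orderOf_dvd_natCard a)
    have h1 : ¬ i ≤ 1 := fun h => ha (orderOf_dvd_iff_pow_eq_one.1 (by
      rw [hi']; exact (Nat.pow_dvd_pow p h).trans (pow_one p).dvd))
    have h2 : i ≠ 3 := by
      rintro rfl
      obtain ⟨c, d, hcd⟩ := not_commutative P hy hiso hyP hperf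
      have htop : zpowers a = ⊤ := eq_top_of_card_eq _ (by rw [Nat.card_zpowers, hi', hn])
      obtain ⟨i, rfl⟩ := mem_zpowers_iff.1 (htop.ge (mem_top c))
      obtain ⟨j, rfl⟩ := mem_zpowers_iff.1 (htop.ge (mem_top d))
      exact hcd (Commute.zpow_zpow_self a i j).eq
    rw [hi', show i = 2 by omega]
  have hidx : (zpowers a).index = p := by
    have h1 := (zpowers a).card_mul_index
    rw [Nat.card_zpowers, ha3, hn, show p ^ 3 = p ^ 2 * p by ring] at h1
    exact Nat.eq_of_mul_eq_mul_left (pow_pos hp.out.pos 2) h1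
  haveI : (zpowers a).Normal := normal_of_index_eq_minFac_card (by
    rw [hidx, hn, Nat.Prime.pow_minFac hp.out (by norm_num)])
  exact not_metacyclic P hy hiso hyP hperf hp2 ⟨zpowers a, inferInstance, inferInstance,
    isCyclic_of_prime_card (p := p) (by rw [← index_eq_card, hidx])⟩

end CfsgLib.IsolatedPRankTwo
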