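import Cfsg.Agent.Lib.IsolatedPRankTwo.Cases
import Cfsg.Agent.Lib.FusionMaxClass.Basic
import Mathlib.NumberTheory.LegendreSymbol.Basic

/-!
An isolated element of order `p` in `p`-rank two: the Sylow subgroups of `F*(G)`.
-/

set_option autoImplicit false
set_option linter.style.haveILetI false
set_option linter.unusedSectionVars false

open Subgroup
open scoped commutatorElement

namespace CfsgLib.IsolatedPRankTwo

universe u

variable {X : Type u} [Group X] [Finite X] {p : ℕ} [hp : Fact p.Prime] (P : Sylow p X) {y : X}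
  (hy : orderOf y = p) (hiso : Cfsg.IsIsolated y) (hyP : y ∈ (P : Subgroup X))
  (hperf : commutator X = ⊤) (hrank : Cfsg.PRankLE p 2 X) (hp2 : p ≠ 2)

open Cfsg.Agent.S3806 (MaxClass twoStep)

include hy hiso hyP hperf hrank hp2 in
theorem case_max_class {n : ℕ} (hn : Nat.card (P : Subgroup X) = p ^ n) (hp3 : p = 3)
    (hn4 : 4 ≤ n) (hev : Even n)
    (hne : (⊤ : Subgroup (P : Subgroup X)).lowerCentralSeries (n - 2) ≠ ⊥) : False := by
  subst hp3
  have h : MaxClass 3 n (P : Subgroup X) := ⟨hn, by omega,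
    CfsgLib.PLoc.Uniserial.lcs_eq_bot_of_card P.isPGroup' hn (by omega), hne⟩
  have hN := le_commutator_normalizer P hperf
    fun W f hf => not_wreath_image h hn4 (rank_sylow P hrank) W f hf
  set N := normalizer ((P : Subgroup X) : Set X) with hNdef
  have hPN : (P : Subgroup X) ≤ N := le_normalizer
  -- the centre is generated by `y`
  have hZ := CfsgLib.FusionMaxClass.card_center hn h.three hne
  have hyZ : (⟨y, hyP⟩ : (P : Subgroup X)) ∈ center (P : Subgroup X) :=
    mem_center_iff.2 fun u => Subtype.ext (commute_of_mem P hiso hyP u.2).eq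
  have hfix : ∀ n' : N, ∀ t ∈ (⊤ : Subgroup (P : Subgroup X)).lowerCentralSeries (n - 2),
      (P : Subgroup X).normalizerMonoidHom n' t = t := by
    intro n' t ht
    have htc : t ∈ center (P : Subgroup X) :=
      mem_center_iff.2 fun g => (CfsgLib.MaxClassUniform.last_le_center h ht g).eq.symm
    have hgen : (⟨t, htc⟩ : center (P : Subgroup X)) ∈ zpowers (⟨⟨y, hyP⟩, hyZ⟩ : center (P : Subgroup X)) :=
      mem_zpowers_of_prime_card hZ fun e => by
        have h1 : y = 1 := congrArg Subtype.val (congrArg Subtype.val e)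
        rw [h1, orderOf_one] at hy
        exact absurd hy (by norm_num)
    obtain ⟨i, hi⟩ := mem_zpowers_iff.1 hgen
    have ht' : (⟨y, hyP⟩ : (P : Subgroup X)) ^ i = t := congrArg Subtype.val hi
    rw [← ht', map_zpow]
    congr 1
    exact Subtype.ext (mul_inv_eq_iff_eq_mul.2 (normalizer_commute P hiso hyP n'.2).eq)
  obtain ⟨-, -, -, u, hu, hu1⟩ := twoStep_one_ne_one h hn4
  -- pass to `N / P'`
  set Pn := (P : Subgroup X).subgroupOf N with hPndef
  haveI : Pn.Normal := normal_in_normalizer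
  set K := ⁅Pn, Pn⁆ with hKdef
  set π := QuotientGroup.mk' K
  have hπ : Function.Surjective π := QuotientGroup.mk'_surjective K
  have hlift : ∀ a : N, a ∈ K ↔ (a : X) ∈ ⁅(P : Subgroup X), (P : Subgroup X)⁆ := by
    intro a
    have e : K.map (N : Subgroup X).subtype = ⁅(P : Subgroup X), (P : Subgroup X)⁆ := by
      rw [hKdef, map_commutator, map_subgroupOf_eq_of_le hPN]
    rw [← e]
    exact ⟨fun ha => mem_map_of_mem _ ha, fun ⟨b, hb, hba⟩ => Subtype.ext hba ▸ hb⟩
  have hL1 : ∀ a : (P : Subgroup X),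
      (a : X) ∈ ⁅(P : Subgroup X), (P : Subgroup X)⁆ ↔
        a ∈ (⊤ : Subgroup (P : Subgroup X)).lowerCentralSeries 1 := by
    intro a
    rw [← Subgroup.map_subtype_commutator, top_lowerCentralSeries_one]
    exact ⟨fun ⟨b, hb, hba⟩ => Subtype.ext hba ▸ hb, fun ha => mem_map_of_mem _ ha⟩
  set u' : N := ⟨u, hPN u.2⟩
  have hcen : π u' ∈ center (N ⧸ K) := by
    refine mem_center_iff.2 fun q => ?_
    obtain ⟨g, rfl⟩ := hπ q
    rw [← map_mul, ← map_mul]
    refine QuotientGroup.eq.2 ((hlift _).2 ?_)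
    have h1 := (hL1 _).2 (fix_twoStep h hn4 hev ((P : Subgroup X).normalizerMonoidHom g⁻¹)
      (hfix g⁻¹) hu)
    have h2 : (((g * u')⁻¹ * (u' * g) : N) : X)
        = (((u⁻¹ * (P : Subgroup X).normalizerMonoidHom g⁻¹ u : (P : Subgroup X))) : X) := by
      show ((g : X) * u)⁻¹ * (u * g) = (u : X)⁻¹ * ((g : X)⁻¹ * u * (g : X)⁻¹⁻¹)
      group
    rw [h2]; exact h1
  have hcop : Nat.Coprime (Pn.map π).index (⁅Pn.map π, Pn.map π⁆.relIndex (Pn.map π)) := by
    refine CfsgLib.Transfer.coprime_index_relIndex_of_coprime_card ?_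
    have h1 := (P.subtype hPN).card_coprime_index
    rw [Sylow.coe_subtype] at h1
    exact (h1.coprime_dvd_left (Pn.card_map_dvd π)).coprime_dvd_right (Pn.index_map_dvd hπ)
  have hu' : u' ∈ commutator N := by
    have h1 := hN u.2
    rw [← Subgroup.map_subtype_commutator] at h1
    obtain ⟨z, hz1, hz2⟩ := h1
    exact (show z = u' from Subtype.ext hz2) ▸ hz1
  have hcomm : π u' ∈ commutator (N ⧸ K) := by
    rw [_root_.commutator_def, ← Subgroup.map_top_of_surjective π hπ, ← map_commutator,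
      ← _root_.commutator_def]
    exact mem_map_of_mem π hu'
  have h1 := CfsgLib.Transfer.center_inf_commutator_inf_le hcop
    ⟨⟨hcen, hcomm⟩, mem_map_of_mem π (show u' ∈ Pn from u.2)⟩
  rw [← map_commutator] at h1
  obtain ⟨k, hk, hku⟩ := h1
  have hk1 : π u' = 1 := by rw [← hku]; exact (QuotientGroup.eq_one_iff k).2 hk
  exact hu1 ((hL1 u).1 ((hlift u').1 ((QuotientGroup.eq_one_iff u').1 hk1)))

theorem extraspecial_of_cube {n : ℕ} (hn : Nat.card (P : Subgroup X) = p ^ n) (hn3 : n = 3)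
    (hab : ∃ a b : (P : Subgroup X), a * b ≠ b * a) (he : ∀ a : (P : Subgroup X), a ^ p = 1) :
    Cfsg.IsExtraspecial p (P : Subgroup X) ∧ Nat.card (P : Subgroup X) = p ^ 3 ∧
      ∀ a : (P : Subgroup X), a ^ p = 1 := by
  subst hn3
  obtain ⟨a, b, hab⟩ := hab
  exact ⟨CfsgLib.EssSmall.isExtraspecial_of_card_cube hn hab, hn, he⟩

include hy hiso hyP hperf hrank hp2 in
/-- The Sylow subgroup is extraspecial of order `p³` and exponent `p`, or of maximal class and of
order an odd power of 3. -/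
theorem sylow_structure :
    (Cfsg.IsExtraspecial p (P : Subgroup X) ∧ Nat.card (P : Subgroup X) = p ^ 3 ∧
      ∀ a : (P : Subgroup X), a ^ p = 1) ∨
    (p = 3 ∧ ∃ k : ℕ, 2 ≤ k ∧ Nat.card (P : Subgroup X) = 3 ^ (2 * k + 1) ∧
      ∃ _ : Group.IsNilpotent (P : Subgroup X), Group.nilpotencyClass (P : Subgroup X) = 2 * k) := by
  obtain ⟨n, hn⟩ := IsPGroup.iff_card.1 P.isPGroup'
  have hab := not_commutative P hy hiso hyP hperf
  have hn3 : 3 ≤ n := by
    by_contra hlt
    obtain ⟨a, b, h⟩ := hab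
    rcases (by omega : n = 2 ∨ n ≤ 1) with rfl | h1
    · exact h ((IsPGroup.isMulCommutative_of_card_eq_prime_sq hn).is_comm.comm a b)
    · rcases (by omega : n = 0 ∨ n = 1) with rfl | rfl
      · haveI : Subsingleton (P : Subgroup X) := (Nat.card_eq_one_iff_unique.1 (by rw [hn, pow_zero])).1
        exact h (Subsingleton.elim _ _)
      · haveI := isCyclic_of_prime_card (p := p) (by rw [hn, pow_one] : Nat.card (P : Subgroup X) = p)
        exact h ((IsCyclic.isMulCommutative (α := (P : Subgroup X))).is_comm.comm a b)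
  have hmax : p = 3 → (⊤ : Subgroup (P : Subgroup X)).lowerCentralSeries (n - 2) ≠ ⊥ →
      (Cfsg.IsExtraspecial p (P : Subgroup X) ∧ Nat.card (P : Subgroup X) = p ^ 3 ∧
        ∀ a : (P : Subgroup X), a ^ p = 1) ∨
      (p = 3 ∧ ∃ k : ℕ, 2 ≤ k ∧ Nat.card (P : Subgroup X) = 3 ^ (2 * k + 1) ∧
        ∃ _ : Group.IsNilpotent (P : Subgroup X), Group.nilpotencyClass (P : Subgroup X) = 2 * k) := by
    intro hp3 hne
    rcases hn3.eq_or_lt with h3 | h4
    · refine Or.inl (extraspecial_of_cube P hn h3.symm hab fun a => ?_)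
      exact case_three_cube P hy hiso hyP hperf hp3 (by rw [hn, ← h3]) hp2 a
    rcases Nat.even_or_odd n with hev | ⟨k, hk⟩
    · exact (case_max_class P hy hiso hyP hperf hrank hp2 hn hp3 h4 hev hne).elim
    refine Or.inr ⟨hp3, k, by omega, by rw [hn, hp3, hk], P.isPGroup'.isNilpotent, ?_⟩
    haveI := P.isPGroup'.isNilpotent
    have h1 := CfsgLib.PLoc.Uniserial.lcs_eq_bot_of_card P.isPGroup' hn (by omega)
    rw [Subgroup.lowerCentralSeries_eq_bot_iff_nilpotencyClass_le] at h1
    rw [Ne, Subgroup.lowerCentralSeries_eq_bot_iff_nilpotencyClass_le] at hne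
    omega
  rcases Cfsg.Agent.S3888.result hp2 n hn (rank_sylow P hrank) with hm |
    ⟨-, x, v, z, hgen, hx, hv, hz, hxz, hvz, hxv⟩ |
    ⟨hn4, s, x, v, z, hs, hgen, hx, hv, hz, hvz, hxv, hxz⟩ | ⟨hp3, -, hne⟩
  · exact (not_metacyclic P hy hiso hyP hperf hp2 hm).elim
  · obtain ⟨h3, he⟩ := case_central_product P hy hiso hyP hperf hrank hp2 hn hn3 hgen hx hv hz hxz hvz hxv
    exact Or.inl (extraspecial_of_cube P hn h3 hab he)
  · have hs' : ¬ p ∣ s := by
      rcases hs with rfl | hs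
      · exact fun h => hp.out.ne_one (Nat.dvd_one.1 h)
      · exact fun h => hs (by rw [(ZMod.natCast_eq_zero_iff s p).2 h]; exact IsSquare.zero)
    obtain ⟨hp3, h4, hne⟩ := case_exceptional P hy hiso hyP hperf hrank hp2 hn hn4 hs' hgen hx hv hz hvz hxv hxz
    subst h4
    exact hmax hp3 hne
  · exact hmax hp3 hne

end CfsgLib.IsolatedPRankTwo
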