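import Cfsg.Agent.Lib.PGroup.MaximalClassThree
import Cfsg.Agent.Lib.PLocal.Uniserial
import Cfsg.Agent.Lib.Transfer.Focal
import Cfsg.Prelude.Def_CaseTheorems
import Cfsg.Prelude.Def_OddOrderLocal

/-!
Facts about `p`-groups of rank two used for isolated elements in `p`-rank two:
an elementary abelian section excludes metacyclic groups and 3-groups of maximal class of
order at least `3 ^ 4`, and automorphisms of such a 3-group of even exponent fixing the centre
fix `P₁ / P'`.
-/

set_option autoImplicit false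
set_option linter.style.haveILetI false
set_option linter.unusedSectionVars false

open Subgroup
open scoped commutatorElement

namespace CfsgLib.IsolatedPRankTwo

universe u

/-- `⁅x ^ i * t, y ^ j * m⁆` when `⁅x, y⁆` and `t` are central and `m` commutes with `x`. -/
theorem comm_pow_pow {Q : Type*} [Group Q] {x y t m : Q} (hc : ⁅x, y⁆ ∈ center Q)
    (ht : t ∈ center Q) (hm : Commute x m) (i j : ℕ) :
    ⁅x ^ i * t, y ^ j * m⁆ = ⁅x, y⁆ ^ (i * j) := by
  have hcz : ∀ g : Q, Commute ⁅x, y⁆ g := fun g => (mem_center_iff.1 hc g).symm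
  have h1 : ⁅x ^ i, y⁆ = ⁅x, y⁆ ^ i := CfsgLib.PGroup.commutator_pow_left x y (hcz x).symm i
  have h2 : ⁅y ^ j, x ^ i⁆ = ⁅y, x ^ i⁆ ^ j := by
    refine CfsgLib.PGroup.commutator_pow_left y _ ?_ j
    rw [← commutatorElement_inv, h1]
    exact ((hcz y).pow_left i).inv_left.symm
  have h3 : ⁅x ^ i, y ^ j⁆ = ⁅x, y⁆ ^ (i * j) := by
    rw [← commutatorElement_inv, h2, ← inv_pow, commutatorElement_inv, h1, pow_mul]
  have h4 : ⁅x ^ i * t, y ^ j * m⁆ = ⁅x ^ i, y ^ j * m⁆ := by
    have : ∀ g : Q, t * g = g * t := fun g => (mem_center_iff.1 ht g).symm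
    rw [commutatorElement_def, commutatorElement_def, mul_inv_rev,
      mul_assoc (x ^ i) t, this (y ^ j * m)]
    group
  have h5 : ⁅x ^ i, y ^ j * m⁆ = ⁅x ^ i, y ^ j⁆ := by
    have h6 : m * (x ^ i)⁻¹ * m⁻¹ = (x ^ i)⁻¹ := by
      rw [← ((hm.pow_left i).inv_left).eq, mul_inv_cancel_right]
    calc ⁅x ^ i, y ^ j * m⁆ = x ^ i * y ^ j * (m * (x ^ i)⁻¹ * m⁻¹) * (y ^ j)⁻¹ := by
          rw [commutatorElement_def]; group
      _ = ⁅x ^ i, y ^ j⁆ := by rw [h6, commutatorElement_def]
  rw [h4, h5, h3]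

/-- A Sylow `p`-subgroup of the symmetric group of degree `p²` contains an elementary abelian
subgroup of order at least `p³`, for `p` odd. -/
theorem exists_elementary_sylow_perm {p : ℕ} [hp : Fact p.Prime] (hp2 : p ≠ 2)
    (W : Sylow p (Equiv.Perm (Fin (p ^ 2)))) :
    ∃ A : Subgroup (W : Subgroup (Equiv.Perm (Fin (p ^ 2)))),
      IsMulCommutative A ∧ (∀ a ∈ A, a ^ p = 1) ∧ p ^ 3 ≤ Nat.card A := by
  classical
  have h3 : 3 ≤ p := by have := hp.out.two_le; omega
  let e : Fin (p ^ 2) ≃ Fin p × ZMod p :=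
    ((finCongr (pow_two p)).trans finProdFinEquiv.symm).trans
      ((Equiv.refl (Fin p)).prodCongr (ZMod.finEquiv p).toEquiv)
  let f : Multiplicative (Fin p → ZMod p) →* Equiv.Perm (Fin (p ^ 2)) :=
    e.symm.permCongrHom.toMonoidHom.comp
      { toFun := fun v => Equiv.prodShear (Equiv.refl _) fun i => Equiv.addLeft (v.toAdd i)
        map_one' := Equiv.ext fun a => by simp [Equiv.prodShear]
        map_mul' := fun v w => Equiv.ext fun a => by simp [Equiv.prodShear, add_assoc] }
  have hinj : Function.Injective f := by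
    intro v w hvw
    have h1 := e.symm.permCongrHom.injective hvw
    refine Multiplicative.toAdd.injective (funext fun i => ?_)
    have h2 := congrArg (fun σ : Equiv.Perm (Fin p × ZMod p) => (σ (i, 0)).2) h1
    simpa [Equiv.prodShear] using h2
  have hexp : ∀ a ∈ f.range, a ^ p = 1 := by
    rintro _ ⟨v, rfl⟩
    rw [← map_pow, show v ^ p = 1 from ?_, map_one]
    refine Multiplicative.toAdd.injective (funext fun i => ?_)
    simp
  have hRp : IsPGroup p f.range := fun a => ⟨1, Subtype.ext (by simpa using hexp _ a.2)⟩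
  obtain ⟨W', hW'⟩ := hRp.exists_le_sylow
  obtain ⟨g, hg⟩ := MulAction.exists_smul_eq (Equiv.Perm (Fin (p ^ 2))) W' W
  set f' := (MulAut.conj g).toMonoidHom.comp f with hf'
  have hle : f'.range ≤ (W : Subgroup (Equiv.Perm (Fin (p ^ 2)))) := by
    rintro _ ⟨v, rfl⟩
    rw [← hg]
    exact Subgroup.smul_mem_pointwise_smul _ (MulAut.conj g) _ (hW' ⟨v, rfl⟩)
  refine ⟨f'.range.subgroupOf W, ⟨⟨?_⟩⟩, ?_, ?_⟩
  · rintro ⟨a, v, hv⟩ ⟨b, w, hw⟩
    refine Subtype.ext (Subtype.ext ?_)
    show (a : Equiv.Perm (Fin (p ^ 2))) * b = b * a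
    rw [show (a : Equiv.Perm (Fin (p ^ 2))) = f' v from hv.symm,
      show (b : Equiv.Perm (Fin (p ^ 2))) = f' w from hw.symm, ← map_mul, mul_comm, map_mul]
  · rintro a ⟨v, hv⟩
    refine Subtype.ext ?_
    rw [SubmonoidClass.coe_pow, OneMemClass.coe_one, show (a : Equiv.Perm (Fin (p ^ 2))) = f' v from hv.symm,
      hf', MonoidHom.comp_apply, ← map_pow, hexp _ ⟨v, rfl⟩, map_one]
  · rw [Nat.card_congr (subgroupOfEquivOfLe hle).toEquiv,
      ← Nat.card_congr (MonoidHom.ofInjective (f := f') ((MulAut.conj g).injective.comp hinj)).toEquiv,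
      Nat.card_congr Multiplicative.toAdd, Nat.card_pi, Finset.prod_const, Finset.card_univ,
      Fintype.card_fin, Nat.card_zmod]
    exact Nat.pow_le_pow_right hp.out.pos h3

/-- A metacyclic group has no elementary abelian section of order above `p²`. -/
theorem card_le_of_metacyclic {X Y : Type*} [Group X] [Group Y] [Finite Y] {p : ℕ} [hp : Fact p.Prime]
    (hX : Cfsg.IsMetacyclic X) (f : X →* Y) (hf : Function.Surjective f) (A : Subgroup Y)
    (hA : ∀ a ∈ A, a ^ p = 1) : Nat.card A ≤ p ^ 2 := by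
  obtain ⟨N, hN, hNc, hQc⟩ := hX
  haveI := hNc
  haveI := hQc
  haveI : (N.map f).Normal := hN.map f hf
  haveI : IsCyclic (N.map f) :=
    isCyclic_of_surjective (f.subgroupMap N) (f.subgroupMap_surjective N)
  haveI : IsCyclic (Y ⧸ N.map f) :=
    isCyclic_of_surjective (QuotientGroup.map N (N.map f) f (Subgroup.le_comap_map f N)) <| by
      intro q
      obtain ⟨b, rfl⟩ := QuotientGroup.mk'_surjective (N.map f) q
      obtain ⟨a, rfl⟩ := hf b
      exact ⟨QuotientGroup.mk' N a, rfl⟩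
  have key : ∀ (H : Type _) [Group H] [Finite H] [IsCyclic H] (B : Subgroup H),
      (∀ b ∈ B, b ^ p = 1) → Nat.card B ≤ p := by
    intro H _ _ _ B hB
    haveI := Subgroup.isCyclic B
    obtain ⟨b, hb⟩ := IsCyclic.exists_ofOrder_eq_natCard (α := B)
    rw [← hb]
    exact Nat.le_of_dvd hp.out.pos (orderOf_dvd_of_pow_eq_one (Subtype.ext (by simpa using hB b b.2)))
  have h1 : Nat.card (A ⊓ N.map f : Subgroup Y) ≤ p := by
    rw [← Nat.card_congr (subgroupOfEquivOfLe (inf_le_right : A ⊓ N.map f ≤ N.map f)).toEquiv]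
    exact key _ _ fun b hb => Subtype.ext (by simpa using hA _ hb.1)
  have h2 : Nat.card (A.map (QuotientGroup.mk' (N.map f))) ≤ p := key _ _ <| by
    rintro _ ⟨a, ha, rfl⟩
    rw [← map_pow, hA a ha, map_one]
  have h3 := Subgroup.card_eq_card_quotient_mul_card_subgroup
    ((QuotientGroup.mk' (N.map f)).comp A.subtype).ker
  rw [Nat.card_congr (QuotientGroup.quotientKerEquivRange _).toEquiv, MonoidHom.range_comp,
    range_subtype, ← MonoidHom.comap_ker, QuotientGroup.ker_mk'] at h3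
  have h4 : Nat.card ((N.map f).comap A.subtype) = Nat.card (A ⊓ N.map f : Subgroup Y) := by
    rw [← Nat.card_congr (subgroupOfEquivOfLe (inf_le_left : A ⊓ N.map f ≤ A)).toEquiv,
      inf_subgroupOf_left]
    rfl
  rw [h3, h4, sq]
  exact Nat.mul_le_mul h2 h1

section MaxClass

open Cfsg.Agent.S3806 (MaxClass twoStep)
open CfsgLib.MaxClassUniform (one_le_twoStep comm_mem_succ)
open CfsgLib.PGroup.MaxClassThree

variable {S : Type u} [Group S] [Finite S] {n : ℕ}

local notation "L" => Subgroup.lowerCentralSeries (⊤ : Subgroup S)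

local instance : Fact (Nat.Prime 3) := ⟨Nat.prime_three⟩

theorem not_wreath_image (h : MaxClass 3 n S) (h4 : 4 ≤ n) (hrank : Cfsg.PRankLE 3 2 S)
    (W : Sylow 3 (Equiv.Perm (Fin (3 ^ 2))))
    (f : S →* (W : Subgroup (Equiv.Perm (Fin (3 ^ 2))))) (hf : Function.Surjective f) : False := by
  obtain ⟨A, hAc, hAe, hA27⟩ := exists_elementary_sylow_perm (by norm_num) W
  have hW : Nat.card (W : Subgroup (Equiv.Perm (Fin (3 ^ 2)))) = 3 ^ 4 := by
    rw [W.card_eq_multiplicity, Nat.card_perm, Nat.card_fin,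
      CfsgLib.Yoshida.factorization_factorial_sq]
  set π : S →* (W : Subgroup (Equiv.Perm (Fin (3 ^ 2)))) := f
  set M := A.comap π with hM
  have hmem : ∀ a ∈ M, a ^ 3 ∈ π.ker ∧ ∀ b ∈ M, ⁅a, b⁆ ∈ π.ker := fun a ha => by
    refine ⟨by rw [MonoidHom.mem_ker, map_pow, hAe _ ha], fun b hb => ?_⟩
    rw [MonoidHom.mem_ker, map_commutatorElement, commutatorElement_eq_one_iff_mul_comm]
    exact congrArg Subtype.val (hAc.is_comm.comm (⟨π a, ha⟩ : A) ⟨π b, hb⟩)
  have hker : Nat.card π.ker = 3 ^ (n - 4) := by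
    have h1 := Subgroup.card_eq_card_quotient_mul_card_subgroup π.ker
    rw [Nat.card_congr (QuotientGroup.quotientKerEquivOfSurjective π hf).toEquiv, hW, h.card,
      show n = 4 + (n - 4) by omega, pow_add] at h1
    exact (Nat.eq_of_mul_eq_mul_left (by norm_num) h1).symm
  rcases (by omega : n = 4 ∨ 5 ≤ n) with rfl | h5
  · have hbot : π.ker = ⊥ := eq_bot_of_card_eq _ (by simpa using hker)
    have hcard : Nat.card M = Nat.card A := by
      refine Nat.card_congr (Equiv.ofBijective (fun a => (⟨π a, a.2⟩ : A)) ⟨?_, ?_⟩)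
      · exact fun a b hab => Subtype.ext
          ((MonoidHom.ker_eq_bot_iff π).1 hbot (congrArg Subtype.val hab))
      · rintro ⟨w, hw⟩
        obtain ⟨a, rfl⟩ := hf w
        exact ⟨⟨a, hw⟩, rfl⟩
    have h1 := hrank M ⟨⟨fun a b => Subtype.ext ((MonoidHom.ker_eq_bot_iff π).1 hbot (by
        show π ((a : S) * b) = π ((b : S) * a)
        rw [map_mul, map_mul]
        exact congrArg Subtype.val (hAc.is_comm.comm (⟨π a, a.2⟩ : A) ⟨π b, b.2⟩)))⟩⟩
      fun a ha => by simpa [hbot] using (hmem a ha).1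
    rw [hcard] at h1
    exact absurd (hA27.trans h1) (by norm_num)
  haveI := h.nilpotent
  have hL3 : L 3 = π.ker := by
    refine eq_of_le_of_card_ge ?_ ?_
    · have h1 := CfsgLib.PLoc.Uniserial.lcs_eq_bot_of_card (W.isPGroup') hW (by norm_num)
      intro a ha
      rw [MonoidHom.mem_ker, ← mem_bot, ← h1]
      have hmap : ∀ k, (L k).map π ≤
          (⊤ : Subgroup (W : Subgroup (Equiv.Perm (Fin (3 ^ 2))))).lowerCentralSeries k := by
        intro k
        induction k with
        | zero => exact le_top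
        | succ k ih =>
          rw [Subgroup.lowerCentralSeries_succ, Subgroup.lowerCentralSeries_succ, map_commutator]
          exact commutator_mono ih le_top
      exact hmap 3 (mem_map_of_mem π ha)
    · rw [hker, h.card_layer (by norm_num) (by omega), show n - 1 - 3 = n - 4 by omega]
  have hMc : Nat.card M = Nat.card A * Nat.card π.ker := by
    have h1 := Subgroup.card_eq_card_quotient_mul_card_subgroup (π.comp M.subtype).ker
    rw [Nat.card_congr (QuotientGroup.quotientKerEquivRange _).toEquiv, MonoidHom.range_comp,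
      range_subtype, hM, map_comap_eq_self_of_surjective hf, ← MonoidHom.comap_ker] at h1
    rw [hM, h1]
    congr 1
    exact Nat.card_congr (subgroupOfEquivOfLe (fun a ha => by
      rw [mem_comap, MonoidHom.mem_ker.1 ha]; exact one_mem _ : π.ker ≤ A.comap π)).toEquiv
  have hS := IsPGroup.of_card h.card
  obtain ⟨k, hk⟩ := hS.index M
  have hmul := M.card_mul_index
  rw [hk, h.card, hMc, hker] at hmul
  have hk1 : k ≤ 1 := by
    by_contra hk2
    have h9 : 3 ^ 2 ≤ 3 ^ k := Nat.pow_le_pow_right (by norm_num) (by omega)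
    have h27 : 3 ^ 3 * 3 ^ (n - 4) * 3 ^ 2 ≤ 3 ^ n :=
      hmul ▸ Nat.mul_le_mul (Nat.mul_le_mul_right _ hA27) h9
    rw [← pow_add, ← pow_add] at h27
    have := (Nat.pow_le_pow_iff_right (by norm_num)).1 h27
    omega
  have hcomm : L 1 ≤ M := by
    rw [Subgroup.top_lowerCentralSeries_one]
    rcases (by omega : k = 0 ∨ k = 1) with rfl | rfl
    · exact le_of_le_of_eq le_top (index_eq_one.1 (by simpa using hk)).symm
    · haveI : M.Normal := Subgroup.normal_of_index_eq_minFac_card (by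
        rw [hk, h.card, Nat.Prime.pow_minFac Nat.prime_three (by omega), pow_one])
      rw [← Subgroup.Normal.quotient_commutative_iff_commutator_le]
      haveI : IsCyclic (S ⧸ M) :=
        isCyclic_of_prime_card (p := 3) (by rw [← index_eq_card, hk, pow_one])
      exact ⟨⟨fun a b => (IsCyclic.isMulCommutative (α := S ⧸ M)).is_comm.comm a b⟩⟩
  have hM1 : M ≤ twoStep (S := S) 1 := fun a ha z hz => by
    rw [hL3]; exact (hmem z (hcomm hz)).2 a ha
  obtain ⟨a, ha, ha1⟩ : ∃ a ∈ M, a ∉ L 1 := by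
    by_contra hh
    push Not at hh
    have h1 : M = L 1 := le_antisymm hh hcomm
    have h2 := (L 1).card_mul_index
    rw [← h1] at h2
    have h3 := h.card_one
    rw [← h1] at h3
    rw [h3, hk, h.card, ← pow_add] at h2
    have := Nat.pow_right_injective (le_refl 2 |>.trans (by norm_num : 2 ≤ 3)) h2
    omega
  exact (twoStep_pow_notMem h h5 (hM1 ha) ha1).2 (hL3.ge (hmem a ha).1)

theorem twoStep_one_ne_one (h : MaxClass 3 n S) (h4 : 4 ≤ n) :
    ∃ a ∈ L 1, a ∉ L 2 ∧ ∃ u ∈ twoStep (S := S) 1, u ∉ L 1 := by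
  haveI : (L 3).Normal := normal_of_characteristic _
  obtain ⟨a, ha, ha2⟩ := SetLike.exists_of_lt (h.lt (i := 1) (by omega))
  refine ⟨a, ha, ha2, ?_⟩
  obtain ⟨φ, hφ⟩ := exists_comm_hom (l := 1) ha inferInstance
  by_contra hh
  push Not at hh
  have hL1a : zpowers a ⊔ L 2 = L 1 :=
    CfsgLib.PGroup.MaxClassPowers.zpowers_sup_next h le_rfl (by omega) ha ha2
  have hker : φ.ker ≤ L 1 := by
    intro x hx
    refine hh x fun z hz => ?_
    have h0 : ⁅a, x⁆ ∈ L 3 := (QuotientGroup.eq_one_iff _).1 ((hφ x).symm.trans hx)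
    have hle : zpowers a ⊔ L 2 ≤ CfsgLib.MaxClassUniform.commMod (L 3) x :=
      sup_le (zpowers_le.2 (CfsgLib.MaxClassUniform.mem_commMod.2 h0))
        fun v hv => CfsgLib.MaxClassUniform.mem_commMod.2 (comm_mem_succ hv x)
    exact CfsgLib.MaxClassUniform.mem_commMod.1 (hle (hL1a.ge hz))
  have hran : Nat.card φ.range ≤ 3 := by
    have hle : φ.range ≤ (L 2).map (QuotientGroup.mk' (L 3)) := by
      rintro _ ⟨x, rfl⟩
      rw [hφ]
      exact mem_map_of_mem _ (comm_mem_succ ha x)
    refine (card_le_of_le hle).trans (le_of_eq ?_)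
    have h1 := Subgroup.card_eq_card_quotient_mul_card_subgroup
      ((QuotientGroup.mk' (L 3)).comp (L 2).subtype).ker
    rw [Nat.card_congr (QuotientGroup.quotientKerEquivRange _).toEquiv, MonoidHom.range_comp,
      range_subtype, ← MonoidHom.comap_ker, QuotientGroup.ker_mk'] at h1
    rw [h.card_layer (by norm_num) (by omega), show n - 1 - 2 = n - 1 - 3 + 1 by omega, pow_succ'] at h1
    have h2 : Nat.card ((L 3).comap (L 2).subtype) = 3 ^ (n - 1 - 3) := by
      rw [← h.card_layer (by norm_num) (by omega)]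
      exact Nat.card_congr (subgroupOfEquivOfLe (Subgroup.lowerCentralSeries_antitone _ (by norm_num))).toEquiv
    rw [h2] at h1
    exact (Nat.eq_of_mul_eq_mul_right (pow_pos (by norm_num) _) h1).symm
  have h3 := Subgroup.card_eq_card_quotient_mul_card_subgroup φ.ker
  rw [Nat.card_congr (QuotientGroup.quotientKerEquivRange φ).toEquiv, h.card] at h3
  have h5 : 3 ^ n ≤ 3 * 3 ^ (n - 2) := h3 ▸ Nat.mul_le_mul hran (h.card_one ▸ card_le_of_le hker)
  rw [← pow_succ'] at h5
  have := (Nat.pow_le_pow_iff_right (by norm_num)).1 h5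
  omega

theorem map_layer (α : MulAut S) (k : ℕ) {x : S} (hx : x ∈ L k) : α x ∈ L k :=
  (Subgroup.characteristic_iff_le_comap.1 inferInstance α) hx

theorem map_layer_iff (α : MulAut S) (k : ℕ) {x : S} : α x ∈ L k ↔ x ∈ L k :=
  ⟨fun h => by simpa using map_layer α.symm k h, map_layer α k⟩

theorem map_twoStep (α : MulAut S) (k : ℕ) {x : S} (hx : x ∈ twoStep (S := S) k) :
    α x ∈ twoStep (S := S) k := fun z hz => by
  have h1 := map_layer α (k + 2) (hx (α.symm z) (map_layer α.symm k hz))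
  rwa [map_commutatorElement, MulEquiv.apply_symm_apply] at h1

/-- Modulo `B`, every element of `A` is a power with exponent below 3 of an element outside `B`. -/
theorem exists_rep {A B : Subgroup S} [B.Normal] (hBA : B ≤ A) (hc : Nat.card A ≤ 3 * Nat.card B)
    {v : S} (hv : v ∈ A) (hvB : v ∉ B) (hv3 : v ^ 3 ∈ B) {x : S} (hx : x ∈ A) :
    ∃ i, i < 3 ∧ ∃ t ∈ B, x = v ^ i * t := by
  have h1 : B ⊔ zpowers v = A := eq_of_le_of_card_ge (sup_le hBA (zpowers_le.2 hv))
    (hc.trans_eq (CfsgLib.PGroup.card_sup_zpowers (p := 3) hvB hv3).symm)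
  obtain ⟨b, hb, w, hw, rfl⟩ := Subgroup.mem_sup_of_normal_left.1 (h1.ge hx)
  obtain ⟨k, rfl⟩ := mem_zpowers_iff.1 hw
  obtain ⟨i, hi, c, hk⟩ : ∃ i : ℕ, i < 3 ∧ ∃ c : ℤ, k = (i : ℤ) + (3 : ℕ) * c :=
    ⟨(k % 3).toNat, by omega, k / 3, by push_cast; omega⟩
  refine ⟨i, hi, (v ^ i)⁻¹ * (b * v ^ k), ?_, by group⟩
  have h3 : (v ^ i)⁻¹ * (b * v ^ k) = (v ^ i)⁻¹ * b * v ^ i * (v ^ 3) ^ c := by
    rw [hk, zpow_add, zpow_mul, zpow_natCast, zpow_natCast]
    group
  rw [h3]
  refine mul_mem ?_ (zpow_mem hv3 c)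
  exact Subgroup.Normal.conj_mem' inferInstance b hb _

theorem pow_three_congr (h : MaxClass 3 n S) {l : ℕ} (hl : 2 ≤ l) {a b : S} (ha : a ∈ L l)
    (hb : b ∈ L l) (hab : a⁻¹ * b ∈ L (l + 1)) : (a ^ 3)⁻¹ * b ^ 3 ∈ L (l + 3) := by
  haveI : (L (l + 3)).Normal := normal_of_characteristic _
  let π := QuotientGroup.mk' (L (l + 3))
  have hc : Commute (π a) (π (a⁻¹ * b)) := by
    rw [← commutatorElement_eq_one_iff_commute, ← map_commutatorElement, QuotientGroup.mk'_apply,
      QuotientGroup.eq_one_iff]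
    exact Subgroup.lowerCentralSeries_antitone _ (by omega : l + 3 ≤ l + (l + 1) + 1)
      (CfsgLib.FGStruct.commutator_lcs_le ⊤ l (l + 1) (commutator_mem_commutator ha hab))
  rw [← QuotientGroup.eq_one_iff]
  show π ((a ^ 3)⁻¹ * b ^ 3) = 1
  have hb' : π b = π a * π (a⁻¹ * b) := by rw [← map_mul, mul_inv_cancel_left]
  rw [map_mul, map_inv, map_pow, map_pow, hb', hc.mul_pow, inv_mul_cancel_left, ← map_pow,
    QuotientGroup.mk'_apply, QuotientGroup.eq_one_iff]
  exact pow_three_layer h (l := l + 1) (by omega) hab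

/-- An automorphism fixing the last layer fixes every even layer. -/
theorem fix_even_layer (h : MaxClass 3 n S) (α : MulAut S) (hα : ∀ z ∈ L (n - 2), α z = z) :
    ∀ d l, l + 2 * d = n - 2 → 2 ≤ l → ∀ a ∈ L l, a⁻¹ * α a ∈ L (l + 1) := by
  intro d
  induction d with
  | zero =>
    intro l hl _ a ha
    rw [hα a (by rw [← hl]; simpa using ha), inv_mul_cancel]
    exact one_mem _
  | succ d ih =>
    intro l hl hl2 a ha
    haveI : (L (l + 1)).Normal := normal_of_characteristic _
    haveI : (L (l + 3)).Normal := normal_of_characteristic _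
    have hanti := Subgroup.lowerCentralSeries_antitone (⊤ : Subgroup S) (Nat.le_succ l)
    by_cases ha1 : a ∈ L (l + 1)
    · exact mul_mem (inv_mem ha1) (map_layer α _ ha1)
    have hcard : Nat.card (L l) ≤ 3 * Nat.card (L (l + 1)) := by
      rw [h.card_layer (by omega) (by omega), h.card_layer (by omega) (by omega), ← pow_succ',
        show n - 1 - (l + 1) + 1 = n - 1 - l by omega]
    have ha3 : a ^ 3 ∈ L (l + 1) :=
      Subgroup.lowerCentralSeries_antitone _ (by omega) (pow_three_layer h (by omega) ha)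
    obtain ⟨i, hi, t, ht, he⟩ := exists_rep hanti hcard ha ha1 ha3 (map_layer α l ha)
    have hcon := pow_three_notMem h (by omega) (by omega) ha ha1
    have h1 : ((a ^ i) ^ 3)⁻¹ * (α a) ^ 3 ∈ L (l + 3) :=
      pow_three_congr h hl2 (pow_mem ha i) (map_layer α l ha)
        (by rw [he, inv_mul_cancel_left]; exact ht)
    have h2 : (a ^ 3)⁻¹ * α (a ^ 3) ∈ L (l + 3) :=
      ih (l + 2) (by omega) (by omega) _ (pow_three_layer h (by omega) ha)
    rw [map_pow] at h2
    have h3 : ((a ^ i) ^ 3)⁻¹ * a ^ 3 ∈ L (l + 3) := by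
      have := mul_mem h1 (inv_mem h2)
      rwa [show ((a ^ i) ^ 3)⁻¹ * α a ^ 3 * ((a ^ 3)⁻¹ * α a ^ 3)⁻¹ = ((a ^ i) ^ 3)⁻¹ * a ^ 3 by
        group] at this
    rw [he]
    interval_cases i
    · exact absurd (by simpa using h3) hcon
    · simpa using ht
    · refine absurd ?_ hcon
      rw [show ((a ^ 2) ^ 3)⁻¹ * a ^ 3 = (a ^ 3)⁻¹ by group] at h3
      exact inv_mem_iff.1 h3

/-- For even `n`, an automorphism fixing the centre fixes `P₁ / P'`. -/
theorem fix_twoStep (h : MaxClass 3 n S) (h4 : 4 ≤ n) (hn : Even n) (α : MulAut S)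
    (hα : ∀ z ∈ L (n - 2), α z = z) {u : S} (hu : u ∈ twoStep (S := S) 1) :
    u⁻¹ * α u ∈ L 1 := by
  haveI : (L 1).Normal := normal_of_characteristic _
  haveI : (L 2).Normal := normal_of_characteristic _
  haveI : (L 3).Normal := normal_of_characteristic _
  by_cases hu1 : u ∈ L 1
  · exact mul_mem (inv_mem hu1) (map_layer α 1 hu1)
  set M := twoStep (S := S) 1 with hMdef
  have hS := IsPGroup.of_card h.card
  have hMtop : M ≠ ⊤ := h.twoStep_ne_top (by omega)
  have hu3 : u ^ 3 ∈ L 1 := h.pow_mem_one u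
  have hcsup := CfsgLib.PGroup.card_sup_zpowers (p := 3) hu1 hu3
  have hUM : L 1 ⊔ zpowers u ≤ M := sup_le (one_le_twoStep 1) (zpowers_le.2 hu)
  have hMeq : L 1 ⊔ zpowers u = M := by
    by_contra hne
    have c2 := CfsgLib.FusionMaxClass.mul_card_le h.card (lt_of_le_of_ne hUM hne)
    refine hMtop (eq_top_of_le_card _ ?_)
    rw [h.card, show n = (n - 2) + 2 by omega, pow_add, ← h.card_one]
    calc Nat.card (L 1) * 3 ^ 2 = 3 * (3 * Nat.card (L 1)) := by ring
      _ ≤ _ := (Nat.mul_le_mul_left 3 hcsup.ge).trans c2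
  have hMc : Nat.card M = 3 * Nat.card (L 1) := hMeq ▸ hcsup
  haveI : M.Normal := by
    rw [← hMeq]
    exact CfsgLib.PGroup.sup_zpowers_normal fun g => by
      rw [Subgroup.lowerCentralSeries_succ, Subgroup.lowerCentralSeries_zero]
      exact commutator_mem_commutator (mem_top u) (mem_top g)
  obtain ⟨s, hs⟩ : ∃ s, s ∉ M := by
    by_contra hh
    push Not at hh
    exact hMtop (eq_top_iff.2 fun x _ => hh x)
  have hs3 : s ^ 3 ∈ M := one_le_twoStep 1 (h.pow_mem_one s)
  obtain ⟨i, hi, t1, ht1, he1⟩ := exists_rep (one_le_twoStep 1) hMc.le hu hu1 hu3 (map_twoStep α 1 hu)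
  have hMtopc : Nat.card (⊤ : Subgroup S) ≤ 3 * Nat.card M := by
    rw [card_top, hMc, h.card, h.card_one, ← pow_succ', ← pow_succ', show n - 2 + 1 + 1 = n by omega]
  obtain ⟨j, hj, m, hm, he2⟩ := exists_rep le_top hMtopc (mem_top s) hs hs3 (mem_top (α s))
  set a := ⁅u, s⁆ with hadef
  have ha : a ∈ L 1 := by
    rw [Subgroup.lowerCentralSeries_succ, Subgroup.lowerCentralSeries_zero]
    exact commutator_mem_commutator (mem_top u) (mem_top s)
  have ha2 : a ∉ L 2 := by
    intro hcon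
    refine CfsgLib.MaxClassUniform.notMem_zero h hu1 fun z _ => ?_
    have hle : M ≤ CfsgLib.MaxClassUniform.commMod (L 2) u := by
      rw [← hMeq]
      exact sup_le (fun v hv => CfsgLib.MaxClassUniform.mem_commMod.2 (comm_mem_succ hv u))
        (zpowers_le.2 (CfsgLib.MaxClassUniform.mem_commMod.2
          (by rw [commutatorElement_self]; exact one_mem _)))
    have hlt : M < CfsgLib.MaxClassUniform.commMod (L 2) u := lt_of_le_of_ne hle fun e => hs
      (e.ge (CfsgLib.MaxClassUniform.mem_commMod.2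
        (by rw [← commutatorElement_inv]; exact inv_mem hcon)))
    have c2 := CfsgLib.FusionMaxClass.mul_card_le h.card hlt
    have htop : CfsgLib.MaxClassUniform.commMod (L 2) u = ⊤ :=
      eq_top_of_le_card _ (by rw [← card_top]; exact hMtopc.trans c2)
    exact CfsgLib.MaxClassUniform.mem_commMod.1 (htop.ge (mem_top z))
  have hw3 : ⁅a, s⁆ ∉ L 3 := h.comm_notMem le_rfl (by omega) hs ha ha2
  set π2 := QuotientGroup.mk' (L 2) with hπ2
  set π3 := QuotientGroup.mk' (L 3) with hπ3
  have hcen2 : ∀ x ∈ L 1, π2 x ∈ center (S ⧸ L 2) := fun x hx => by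
    refine mem_center_iff.2 fun q => ?_
    obtain ⟨y, rfl⟩ := QuotientGroup.mk'_surjective (L 2) q
    rw [eq_comm, ← commutatorElement_eq_one_iff_mul_comm, ← map_commutatorElement,
      QuotientGroup.mk'_apply, QuotientGroup.eq_one_iff]
    exact comm_mem_succ hx y
  have hcen3 : ∀ x ∈ L 2, π3 x ∈ center (S ⧸ L 3) := fun x hx => by
    refine mem_center_iff.2 fun q => ?_
    obtain ⟨y, rfl⟩ := QuotientGroup.mk'_surjective (L 3) q
    rw [eq_comm, ← commutatorElement_eq_one_iff_mul_comm, ← map_commutatorElement,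
      QuotientGroup.mk'_apply, QuotientGroup.eq_one_iff]
    exact comm_mem_succ hx y
  have hum : Commute (π2 u) (π2 m) := by
    obtain ⟨b, hb, v, hv, rfl⟩ := Subgroup.mem_sup_of_normal_left.1 (hMeq.ge hm)
    obtain ⟨k, rfl⟩ := mem_zpowers_iff.1 hv
    rw [map_mul, map_zpow]
    exact Commute.mul_right (mem_center_iff.1 (hcen2 b hb) _) ((Commute.refl _).zpow_right k)
  have eA : π2 (α a) = π2 a ^ (i * j) := by
    rw [hadef, map_commutatorElement, he1, he2, map_commutatorElement, map_mul, map_mul, map_pow,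
      map_pow, comm_pow_pow (by rw [← map_commutatorElement]; exact hcen2 _ ha) (hcen2 t1 ht1) hum,
      map_commutatorElement]
  have ht2 : (a ^ (i * j))⁻¹ * α a ∈ L 2 := by
    rw [← QuotientGroup.eq_one_iff, ← QuotientGroup.mk'_apply (N := L 2), map_mul, map_inv, map_pow,
      eA, inv_mul_cancel]
  have ham : Commute (π3 a) (π3 m) := by
    rw [← commutatorElement_eq_one_iff_commute, ← map_commutatorElement, QuotientGroup.mk'_apply,
      QuotientGroup.eq_one_iff]
    exact hm a ha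
  have eW : π3 (α ⁅a, s⁆) = π3 ⁅a, s⁆ ^ (i * j * j) := by
    rw [map_commutatorElement, (mul_inv_cancel_left (a ^ (i * j)) (α a)).symm, he2,
      map_commutatorElement, map_mul, map_mul π3 (s ^ j), map_pow, map_pow π3 s,
      comm_pow_pow (by rw [← map_commutatorElement]; exact hcen3 _ (comm_mem_succ ha s))
        (hcen3 _ ht2) ham]
    congr 1
  obtain ⟨k, hk⟩ := hn
  have hQ := fix_even_layer h α hα (k - 2) 2 (by omega) le_rfl _ (comm_mem_succ ha s)
  have hπα : π3 (α ⁅a, s⁆) = π3 ⁅a, s⁆ := by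
    rw [eq_comm]
    exact QuotientGroup.eq.2 hQ
  rw [hπα] at eW
  have hne : π3 ⁅a, s⁆ ≠ 1 := fun e => hw3 ((QuotientGroup.eq_one_iff _).1 e)
  have h3w : π3 ⁅a, s⁆ ^ 3 = 1 := by
    rw [← map_pow, QuotientGroup.mk'_apply, QuotientGroup.eq_one_iff]
    exact Subgroup.lowerCentralSeries_antitone _ (by norm_num : 3 ≤ 4)
      (pow_three_layer h (by norm_num) (comm_mem_succ ha s))
  have hord : orderOf (π3 ⁅a, s⁆) = 3 := orderOf_eq_prime h3w hne
  have hmod : (i * j * j) % 3 = 1 := by
    have := pow_eq_pow_iff_modEq.1 ((pow_one (π3 ⁅a, s⁆)).trans eW)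
    rw [hord] at this
    simpa [Nat.ModEq] using this.symm
  have hi1 : i = 1 := by
    interval_cases i <;> interval_cases j <;> omega
  subst hi1
  rw [he1, pow_one, inv_mul_cancel_left]
  exact ht1

end MaxClass

end CfsgLib.IsolatedPRankTwo
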